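import Groth.Agent.TorusFieldLib.Galois
import Mathlib.RingTheory.Bialgebra.MonoidAlgebra

set_option autoImplicit false

/-!
Invariant cocharacters descend to the ground field; rational points as invariant characters.
-/

noncomputable section

universe u

open scoped TensorProduct
open WithConv

namespace Groth.Agent.TorusField

variable {K : Type u} [Field K] {A : Type u} [CommRing A] [Bialgebra K A] {M : Type} [AddCommGroup M]
  {F : Type u} [Field F] [Algebra K F] (E : Split K A M F)

theorem algebraMap_fixed (σ : F ≃ₐ[K] F) (x : K) : σ (algebraMap K F x) = algebraMap K F x := σ.commutes x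

/-- Functions invariant under the action give `K`-valued functionals. -/
theorem sum_invariant_mem [IsAlgClosure K F] (ρ : (F ≃ₐ[K] F) →* (M ≃ₗ[ℤ] M))
    (hρ : ∀ σ m, push σ.toAlgHom (E.e m) = E.e (ρ σ m)) (P : M → Prop) [DecidablePred P]
    (hP : ∀ σ m, P (ρ σ m) ↔ P m) (a : A) :
    (∑ m ∈ (E.e.repr ((1 : F) ⊗ₜ[K] a)).support.filter P, E.e.repr ((1 : F) ⊗ₜ[K] a) m) ∈
      Set.range (algebraMap K F) := by
  haveI := IsAlgClosure.isAlgebraic (R := K) (K := F)
  refine mem_range_of_fixed (sum_mem fun m _ => repr_mem_separableClosure E a m) fun σ => ?_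
  rw [map_sum]
  refine Finset.sum_equiv (ρ σ).toEquiv (fun m => ?_) fun m _ => repr_equivariant E ρ hρ σ a m
  simp only [Finset.mem_filter, Finsupp.mem_support_iff, LinearEquiv.coe_toEquiv, hP,
    ← repr_equivariant E ρ hρ σ a m, EmbeddingLike.map_ne_zero_iff]

theorem exists_toMonoidAlgebra (y : M →+ ℤ) :
    ∃ Φ : F ⊗[K] A →ₐ[F] MonoidAlgebra F (Multiplicative ℤ),
      ∀ m, Φ (E.e m) = MonoidAlgebra.single (Multiplicative.ofAdd (y m)) 1 := by
  let L := E.e.constr F fun m => MonoidAlgebra.single (Multiplicative.ofAdd (y m)) (1 : F)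
  have hL : ∀ m, L (E.e m) = MonoidAlgebra.single (Multiplicative.ofAdd (y m)) 1 := fun m =>
    E.e.constr_basis F _ m
  refine ⟨AlgHom.ofLinearMap L ?_ ?_, hL⟩
  · rw [← E.e_zero, hL, map_zero, ofAdd_zero, MonoidAlgebra.one_def]
  · have : (LinearMap.mul F (F ⊗[K] A)).compr₂ L =
        (LinearMap.mul F (MonoidAlgebra F (Multiplicative ℤ))).compl₁₂ L L := by
      refine E.e.ext fun a => E.e.ext fun b => ?_
      simp [← E.e_add, hL, MonoidAlgebra.single_mul_single, map_add]
    exact fun x y => DFunLike.congr_fun (DFunLike.congr_fun this x) y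

/-- An invariant cocharacter is defined over the ground field. -/
theorem exists_bialgHom [IsAlgClosure K F] (ρ : (F ≃ₐ[K] F) →* (M ≃ₗ[ℤ] M))
    (hρ : ∀ σ m, push σ.toAlgHom (E.e m) = E.e (ρ σ m)) (y : M →+ ℤ) (hy : ∀ σ m, y (ρ σ m) = y m)
    (hys : Function.Surjective y) :
    ∃ ψ : A →ₐ[K] MonoidAlgebra K (Multiplicative ℤ),
      Function.Surjective ψ ∧
      (Bialgebra.counitAlgHom K (MonoidAlgebra K (Multiplicative ℤ))).comp ψ = Bialgebra.counitAlgHom K A ∧
      (Algebra.TensorProduct.map ψ ψ).comp (Bialgebra.comulAlgHom K A) =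
        (Bialgebra.comulAlgHom K (MonoidAlgebra K (Multiplicative ℤ))).comp ψ := by
  classical
  obtain ⟨Φ, hΦ⟩ := exists_toMonoidAlgebra E y
  let G := Multiplicative ℤ
  let ι : MonoidAlgebra K G →ₐ[K] MonoidAlgebra F G :=
    MonoidAlgebra.lift K (MonoidAlgebra F G) G (MonoidAlgebra.of F G)
  have hι : ∀ g c, ι (MonoidAlgebra.single g c) = MonoidAlgebra.single g (algebraMap K F c) := by
    intro g c
    simp [ι, Algebra.smul_def]
  have hιi : Function.Injective ι := by
    intro x x' h
    have key : ∀ (z : MonoidAlgebra K G) (g : G), (ι z).coeff g = algebraMap K F (z.coeff g) := by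
      intro z g
      induction z using MonoidAlgebra.induction_linear with
      | zero => simp
      | add a b ha hb => simp [ha, hb]
      | single g' c => simp only [hι, MonoidAlgebra.coeff_single, Finsupp.single_apply]; split_ifs <;> simp
    ext g
    exact (algebraMap K F).injective (by rw [← key, ← key, h])
  have hrange : ∀ a : A, ∃ z, ι z = Φ ((1 : F) ⊗ₜ[K] a) := by
    intro a
    have e : Φ ((1 : F) ⊗ₜ[K] a) = ∑ m ∈ (E.e.repr ((1 : F) ⊗ₜ[K] a)).support,
        MonoidAlgebra.single (Multiplicative.ofAdd (y m)) (E.e.repr ((1 : F) ⊗ₜ[K] a) m) := by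
      conv_lhs => rw [← E.e.linearCombination_repr ((1 : F) ⊗ₜ[K] a)]
      simp only [Finsupp.linearCombination_apply, Finsupp.sum, map_sum, map_smul, hΦ,
        MonoidAlgebra.smul_single, smul_eq_mul, mul_one]
    set f := E.e.repr ((1 : F) ⊗ₜ[K] a)
    have hc : ∀ j : ℤ, ∃ c : K, algebraMap K F c = ∑ m ∈ f.support.filter (fun m => y m = j), f m := fun j =>
      sum_invariant_mem E ρ hρ (fun m => y m = j) (fun σ m => by rw [hy]) a
    choose c hc using hc
    refine ⟨∑ j ∈ f.support.image y, MonoidAlgebra.single (Multiplicative.ofAdd j) (c j), ?_⟩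
    rw [map_sum, e, ← Finset.sum_fiberwise_of_maps_to (fun m hm => Finset.mem_image_of_mem y hm)]
    refine Finset.sum_congr rfl fun j _ => ?_
    rw [hι, hc, ← MonoidAlgebra.singleAddHom_apply, map_sum]
    exact Finset.sum_congr rfl fun m hm => by rw [(Finset.mem_filter.1 hm).2]; rfl
  choose z hz using hrange
  let φA : A →ₐ[K] MonoidAlgebra F G := (Φ.restrictScalars K).comp Algebra.TensorProduct.includeRight
  let ψ : A →ₐ[K] MonoidAlgebra K G :=
    { toFun := z
      map_one' := hιi (by rw [hz, map_one, ← Algebra.TensorProduct.one_def, map_one])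
      map_mul' := fun a b => hιi (by
        rw [hz, map_mul, hz, hz, ← map_mul, Algebra.TensorProduct.tmul_mul_tmul, one_mul])
      map_zero' := hιi (by rw [hz, TensorProduct.tmul_zero, map_zero, map_zero])
      map_add' := fun a b => hιi (by rw [hz, map_add, hz, hz, TensorProduct.tmul_add, map_add])
      commutes' := fun r => hιi (by
        rw [hz, AlgHom.commutes]
        exact φA.commutes r) }
  have hψ : ∀ a, ι (ψ a) = φA a := hz
  refine ⟨ψ, ?_, ?_, ?_⟩
  · -- surjectivity
    have key : ∀ g : G, MonoidAlgebra.single g (1 : K) ∈ ψ.range := by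
      intro g
      by_contra hg
      obtain ⟨f, hf, hf0⟩ := Submodule.exists_dual_map_eq_bot_of_notMem
        (show MonoidAlgebra.single g (1 : K) ∉ Subalgebra.toSubmodule ψ.range from hg) inferInstance
      obtain ⟨m, hm⟩ := hys g.toAdd
      let f' : MonoidAlgebra F G →ₗ[F] F :=
        (MonoidAlgebra.basis G F).constr F fun h => algebraMap K F (f (MonoidAlgebra.single h 1))
      have hf' : ∀ x, f' (ι x) = algebraMap K F (f x) := by
        intro x
        induction x using MonoidAlgebra.induction_linear with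
        | zero => simp
        | add a b ha hb => simp [ha, hb]
        | single h c =>
          rw [hι, show MonoidAlgebra.single h (algebraMap K F c) = algebraMap K F c • (MonoidAlgebra.basis G F h) by
              rw [MonoidAlgebra.basis_apply, MonoidAlgebra.smul_single, smul_eq_mul, mul_one],
            map_smul, Module.Basis.constr_basis,
            show MonoidAlgebra.single h c = c • MonoidAlgebra.single h (1 : K) by
              rw [MonoidAlgebra.smul_single, smul_eq_mul, mul_one], map_smul, smul_eq_mul, smul_eq_mul, map_mul]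
      have hzero : f'.comp Φ.toLinearMap = 0 := by
        apply LinearMap.ext
        intro x
        induction x using TensorProduct.induction_on with
        | zero => simp
        | add a b ha hb => simp [map_add, ha, hb]
        | tmul s a =>
          rw [show s ⊗ₜ[K] a = s • ((1 : F) ⊗ₜ[K] a) by rw [TensorProduct.smul_tmul', smul_eq_mul, mul_one]]
          have h0 : f (ψ a) = 0 := by
            have : f (ψ a) ∈ (Subalgebra.toSubmodule ψ.range).map f := ⟨_, ⟨a, rfl⟩, rfl⟩
            rwa [hf0, Submodule.mem_bot] at this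
          rw [map_smul, LinearMap.comp_apply, AlgHom.toLinearMap_apply, ← hz, hf']
          show s • algebraMap K F (f (ψ a)) = _
          rw [h0, map_zero, smul_zero, LinearMap.zero_apply]
      have h := LinearMap.congr_fun hzero (E.e m)
      rw [LinearMap.comp_apply, AlgHom.toLinearMap_apply, hΦ, hm, ofAdd_toAdd, ← MonoidAlgebra.basis_apply,
        Module.Basis.constr_basis, LinearMap.zero_apply] at h
      exact hf ((algebraMap K F).injective (h.trans (map_zero _).symm))
    intro x
    have hx : x ∈ ψ.range := by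
      induction x using MonoidAlgebra.induction_linear with
      | zero => exact zero_mem _
      | add a b ha hb => exact add_mem ha hb
      | single g c =>
        rw [show MonoidAlgebra.single g c = c • MonoidAlgebra.single g (1 : K) by
          rw [MonoidAlgebra.smul_single, smul_eq_mul, mul_one]]
        exact Subalgebra.smul_mem _ (key g) c
    exact hx
  · -- counit
    let εF : MonoidAlgebra F G →ₐ[F] F := MonoidAlgebra.lift F F G 1
    have h1 : εF.comp Φ = ev1 K A F := AlgHom.toLinearMap_injective (E.e.ext fun m => by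
      simp [εF, hΦ, (E.gl m).2])
    have h2 : (εF.restrictScalars K).comp ι =
        (Algebra.ofId K F).comp (Bialgebra.counitAlgHom K (MonoidAlgebra K G)) := by
      apply MonoidAlgebra.algHom_ext
      · intro g
        simp [εF, hι]
      · exact Subsingleton.elim _ _
    apply AlgHom.ext
    intro a
    apply (algebraMap K F).injective
    have e := (DFunLike.congr_fun h2 (ψ a)).symm
    have e' := DFunLike.congr_fun h1 ((1 : F) ⊗ₜ[K] a)
    simp only [AlgHom.comp_apply, AlgHom.coe_restrictScalars', hψ, φA, Algebra.TensorProduct.includeRight_apply,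
      Algebra.ofId_apply] at e e' ⊢
    rw [e, e']
    simp [ev1]
  · -- comultiplication
    let G2 := Multiplicative ℤ × Multiplicative ℤ
    let l : MonoidAlgebra F G →ₐ[F] MonoidAlgebra F G2 :=
      MonoidAlgebra.mapDomainAlgHom F F (MonoidHom.inl G G)
    let r : MonoidAlgebra F G →ₐ[F] MonoidAlgebra F G2 :=
      MonoidAlgebra.mapDomainAlgHom F F (MonoidHom.inr G G)
    let d : MonoidAlgebra F G →ₐ[F] MonoidAlgebra F G2 :=
      MonoidAlgebra.mapDomainAlgHom F F ((MonoidHom.id G).prod (MonoidHom.id G))
    have hlr : ∀ g h : G, MonoidHom.inl G G g * MonoidHom.inr G G h = (g, h) := fun g h =>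
      Prod.ext (mul_one g) (one_mul h)
    have hdd : ∀ g : G, ((MonoidHom.id G).prod (MonoidHom.id G)) g = (g, g) := fun g => rfl
    let Φ₂ : F ⊗[K] (A ⊗[K] A) →ₐ[F] MonoidAlgebra F G2 :=
      Algebra.TensorProduct.lift (Algebra.ofId F _)
        (Algebra.TensorProduct.lift ((l.restrictScalars K).comp φA) ((r.restrictScalars K).comp φA)
          fun _ _ => Commute.all _ _) fun _ _ => Commute.all _ _
    have hJ₁ : Φ₂.comp (J₁ K A F) = l.comp Φ := Algebra.TensorProduct.ext (Subsingleton.elim _ _)
      (AlgHom.ext fun a => by simp [Φ₂, J₁, φA, ← Algebra.TensorProduct.one_def, ← MonoidAlgebra.one_def])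
    have hJ₂ : Φ₂.comp (J₂ K A F) = r.comp Φ := Algebra.TensorProduct.ext (Subsingleton.elim _ _)
      (AlgHom.ext fun a => by simp [Φ₂, J₂, φA, ← Algebra.TensorProduct.one_def, ← MonoidAlgebra.one_def])
    have hD : Φ₂.comp (D K A F) = d.comp Φ := AlgHom.toLinearMap_injective (E.e.ext fun m => by
      simp only [AlgHom.toLinearMap_apply, AlgHom.comp_apply, (E.gl m).1, map_mul]
      rw [show Φ₂ (J₁ K A F (E.e m)) = l (Φ (E.e m)) from DFunLike.congr_fun hJ₁ _,
        show Φ₂ (J₂ K A F (E.e m)) = r (Φ (E.e m)) from DFunLike.congr_fun hJ₂ _, hΦ]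
      simp [l, r, d, MonoidAlgebra.single_mul_single, hlr, hdd])
    let Θ : MonoidAlgebra K G ⊗[K] MonoidAlgebra K G →ₐ[K] MonoidAlgebra F G2 :=
      Algebra.TensorProduct.lift ((l.restrictScalars K).comp ι) ((r.restrictScalars K).comp ι)
        fun _ _ => Commute.all _ _
    have hΘ : Function.Injective Θ := by
      let b := (MonoidAlgebra.basis G K).tensorProduct (MonoidAlgebra.basis G K)
      have key : ∀ z p, (Θ z).coeff p = algebraMap K F (b.repr z p) := by
        intro z p
        have hb : ∀ q, Θ (b q) = MonoidAlgebra.single q 1 := by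
          rintro ⟨g, h⟩
          simp [Θ, b, l, r, hι, MonoidAlgebra.single_mul_single, hlr]
        conv_lhs => rw [← b.linearCombination_repr z]
        simp only [Finsupp.linearCombination_apply, Finsupp.sum, map_sum, map_smul, hb,
          MonoidAlgebra.coeff_sum, MonoidAlgebra.coeff_smul, MonoidAlgebra.coeff_single, Finsupp.coe_finsetSum,
          Finset.sum_apply, Finsupp.smul_single, MonoidAlgebra.smul_single,
          ← Algebra.algebraMap_eq_smul_one, Finsupp.single_apply]
        rw [Finset.sum_ite_eq']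
        split_ifs with hp
        · rfl
        · rw [Finsupp.notMem_support_iff.1 hp, map_zero]
      intro x x' h
      exact b.ext_elem fun p => (algebraMap K F).injective (by rw [← key, ← key, h])
    apply AlgHom.ext
    intro a
    apply hΘ
    have e1 : (Θ.comp (Algebra.TensorProduct.map ψ ψ)) =
        ((Φ₂.restrictScalars K).comp (Algebra.TensorProduct.includeRight : A ⊗[K] A →ₐ[K] F ⊗[K] (A ⊗[K] A))) := by
      apply Algebra.TensorProduct.ext <;> ext x <;> simp [Θ, Φ₂, hψ]
    have e2 : Θ.comp (Bialgebra.comulAlgHom K (MonoidAlgebra K G)) = (d.restrictScalars K).comp ι := by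
      apply MonoidAlgebra.algHom_ext
      · intro g
        simp [Θ, hι, l, r, d, MonoidAlgebra.single_mul_single, hlr, hdd]
      · exact Subsingleton.elim _ _
    calc Θ ((Algebra.TensorProduct.map ψ ψ) (Bialgebra.comulAlgHom K A a))
        = Φ₂ (D K A F ((1 : F) ⊗ₜ[K] a)) := by
          rw [← AlgHom.comp_apply, e1]; rfl
      _ = d (Φ ((1 : F) ⊗ₜ[K] a)) := by simpa using DFunLike.congr_fun hD ((1 : F) ⊗ₜ[K] a)
      _ = Θ (Bialgebra.comulAlgHom K (MonoidAlgebra K G) (ψ a)) := by
          rw [← AlgHom.comp_apply Θ, e2, AlgHom.comp_apply, hψ]; rfl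

/-- Evaluation at a rational point, with scalars extended. -/
def evAt (F : Type u) [Field F] [Algebra K F] (x : A →ₐ[K] K) : F ⊗[K] A →ₐ[F] F :=
  Algebra.TensorProduct.lift (AlgHom.id F F) ((Algebra.ofId K F).comp x) fun _ _ => Commute.all _ _

theorem evAt_mul {x y : WithConv (A →ₐ[K] K)} {z : F ⊗[K] A} (hz : IsGL K A F z) :
    evAt F (x * y).ofConv z = evAt F x.ofConv z * evAt F y.ofConv z := by
  let W : F ⊗[K] (A ⊗[K] A) →ₐ[F] F := Algebra.TensorProduct.lift (AlgHom.id F F)
    ((Algebra.ofId K F).comp (Algebra.TensorProduct.lift x.ofConv y.ofConv fun _ _ => Commute.all _ _))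
    fun _ _ => Commute.all _ _
  have h1 : W.comp (J₁ K A F) = evAt F x.ofConv :=
    Algebra.TensorProduct.ext (Subsingleton.elim _ _) (AlgHom.ext fun a => by simp [W, J₁, evAt])
  have h2 : W.comp (J₂ K A F) = evAt F y.ofConv :=
    Algebra.TensorProduct.ext (Subsingleton.elim _ _) (AlgHom.ext fun a => by simp [W, J₂, evAt])
  have h3 : W.comp (D K A F) = evAt F (x * y).ofConv := by
    refine Algebra.TensorProduct.ext (Subsingleton.elim _ _) (AlgHom.ext fun a => ?_)
    have e : (x * y).ofConv a =
        Algebra.TensorProduct.lift x.ofConv y.ofConv (fun _ _ => Commute.all _ _) (CoalgebraStruct.comul a) :=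
      AlgHom.convMul_apply _ _ _
    simp [W, D, evAt, e]
  rw [← h3, AlgHom.comp_apply, hz.1, map_mul, ← AlgHom.comp_apply, h1, ← AlgHom.comp_apply, h2]

theorem evAt_one {z : F ⊗[K] A} (hz : IsGL K A F z) : evAt F (1 : WithConv (A →ₐ[K] K)).ofConv z = 1 := by
  rw [show evAt F (1 : WithConv (A →ₐ[K] K)).ofConv = ev1 K A F from
    Algebra.TensorProduct.ext (Subsingleton.elim _ _) (AlgHom.ext fun a => by
      simp [evAt, ev1, AlgHom.convOne_def]), hz.2]

/-- Rational points as characters. -/
def pointChar : WithConv (A →ₐ[K] K) →* (Multiplicative M →* F) where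
  toFun x := ((evAt F x.ofConv).toRingHom.toMonoidHom).comp E.hom
  map_one' := MonoidHom.ext fun m => evAt_one (E.gl m.toAdd)
  map_mul' x y := MonoidHom.ext fun m => evAt_mul (E.gl m.toAdd)

theorem pointChar_injective : Function.Injective (pointChar E) := by
  intro x y h
  have hev : evAt F x.ofConv = evAt F y.ofConv :=
    AlgHom.toLinearMap_injective (E.e.ext fun m => DFunLike.congr_fun h (Multiplicative.ofAdd m))
  apply WithConv.ext
  apply AlgHom.ext
  intro a
  have := DFunLike.congr_fun hev ((1 : F) ⊗ₜ[K] a)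
  simp [evAt] at this
  exact this

theorem pointChar_invariant (ρ : (F ≃ₐ[K] F) →* (M ≃ₗ[ℤ] M))
    (hρ : ∀ σ m, push σ.toAlgHom (E.e m) = E.e (ρ σ m)) (x : WithConv (A →ₐ[K] K)) (σ : F ≃ₐ[K] F) (m : M) :
    pointChar E x (Multiplicative.ofAdd (ρ σ m)) = σ (pointChar E x (Multiplicative.ofAdd m)) := by
  show evAt F x.ofConv (E.e (ρ σ m)) = σ (evAt F x.ofConv (E.e m))
  rw [← hρ]
  generalize E.e m = z
  induction z using TensorProduct.induction_on with
  | zero => simp
  | add a b ha hb => simp only [map_add, ha, hb]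
  | tmul s a => simp [push, evAt]

end Groth.Agent.TorusField
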