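import Groth.Agent.AlgSpLib.AffineDescent
import Groth.Agent.DiagRepLib.Scheme
import Groth.Agent.DiagRepLib.Coords
import Groth.Agent.TorusFieldLib.Cochar
import Mathlib.AlgebraicGeometry.Group.Affine
import Mathlib.AlgebraicGeometry.Morphisms.Flat

set_option autoImplicit false

/-!
Tori over a field as spectra of Hopf algebras.
-/

noncomputable section

universe u

open CategoryTheory MonoidalCategory CartesianMonoidalCategory AlgebraicGeometry CoactBr WithConv
open scoped MonObj TensorProduct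

namespace Groth.Agent.TorusField

open Groth.Agent.DiagRep (GLBasis baseHom bcHom exists_pt)

theorem surjective_baseHom (K L : Type u) [Field K] [Field L] [Algebra K L] : Surjective (baseHom K L) :=
  ⟨fun y => ⟨(⊥ : PrimeSpectrum L), @Subsingleton.elim (PrimeSpectrum K) inferInstance _ _⟩⟩

theorem exists_affine_rep {K : Type u} [Field K] (T : Over (Spec (CommRingCat.of K))) [GrpObj T]
    (L : Type u) [Field L] [Algebra K L] (h : IsAffine (Red.bc (baseHom K L) T).left) :
    ∃ (A : Type u) (_ : CommRing A) (_ : HopfAlgebra K A) (v : sp K A ≅ T), IsMonHom v.hom ∧ IsMonHom v.inv := by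
  haveI := surjective_baseHom K L
  haveI : Flat (baseHom K L) := by
    rw [HasRingHomProperty.Spec_iff (P := @Flat)]
    exact RingHom.flat_algebraMap_iff.2 inferInstance
  haveI : IsAffine (Limits.pullback T.hom (baseHom K L)) := h
  haveI : IsAffine T.left := AlgSpLib.isAffine_of_descent (IsPullback.of_hasPullback T.hom (baseHom K L))
  obtain ⟨H, ⟨e⟩⟩ : (hopfSpec (CommRingCat.of K)).essImage (Grp.mk T) :=
    (essImage_hopfSpec (R := CommRingCat.of K) (G := Grp.mk T)).2 inferInstance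
  refine ⟨H.unop.X, H.unop.commRing, H.unop.hopfAlgebra, (Grp.forget _).mapIso e, ?_, ?_⟩
  · exact e.hom.hom.isMonHom_hom
  · exact e.inv.hom.isMonHom_hom

section

variable {k : Type u} [CommRing k] {M : Type} [AddCommGroup M] {C C' : Type u} [CommRing C] [HopfAlgebra k C]
  [CommRing C'] [HopfAlgebra k C']

/-- Hopf algebras with the same group-like basis have isomorphic spectra. -/
theorem exists_iso_of_basis (E : GLBasis k M C) (E' : GLBasis k M C') :
    ∃ u : sp k C' ≅ sp k C, IsMonHom u.hom ∧ IsMonHom u.inv := by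
  have mk : ∀ {C₁ C₂ : Type u} [CommRing C₁] [HopfAlgebra k C₁] [CommRing C₂] [HopfAlgebra k C₂]
      (E₁ : GLBasis k M C₁) (E₂ : GLBasis k M C₂),
      ∃ f : C₁ →ₐ[k] C₂, (∀ a, f (E₁.e a) = E₂.e a) ∧ IsMonHom (pt f) := by
    intro C₁ C₂ _ _ _ _ E₁ E₂
    let L := E₁.e.constr k fun a => E₂.e a
    have hL : ∀ a, L (E₁.e a) = E₂.e a := fun a => E₁.e.constr_basis k _ a
    let f : C₁ →ₐ[k] C₂ := AlgHom.ofLinearMap L (by rw [← E₁.e_zero, hL, E₂.e_zero]) (by
      have : (LinearMap.mul k C₁).compr₂ L = (LinearMap.mul k C₂).compl₁₂ L L := by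
        refine E₁.e.ext fun a => E₁.e.ext fun b => ?_
        simp [E₁.e_mul, hL, E₂.e_mul]
      exact fun x y => DFunLike.congr_fun (DFunLike.congr_fun this x) y)
    have hf : ∀ a, f (E₁.e a) = E₂.e a := hL
    refine ⟨f, hf, DiagRep.isMonHom_pt f ?_ ?_⟩
    · exact AlgHom.toLinearMap_injective (E₁.e.ext fun a => by simp [hf, E₁.counit_e, E₂.counit_e])
    · exact AlgHom.toLinearMap_injective (E₁.e.ext fun a => by simp [hf, E₁.comul_e, E₂.comul_e])
  obtain ⟨f, hf, hm⟩ := mk E E'
  obtain ⟨f', hf', hm'⟩ := mk E' E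
  have h1 : f.comp f' = AlgHom.id k C' := AlgHom.toLinearMap_injective (E'.e.ext fun a => by simp [hf', hf])
  have h2 : f'.comp f = AlgHom.id k C := AlgHom.toLinearMap_injective (E.e.ext fun a => by simp [hf', hf])
  exact ⟨⟨pt f, pt f', by rw [← pt_comp, h1, pt_id], by rw [← pt_comp, h2, pt_id]⟩, hm, hm'⟩

end

variable {K : Type u} [Field K] {A : Type u} [CommRing A] [HopfAlgebra K A]

theorem isGL_of_groupLike {S : Type u} [CommRing S] [Algebra K S] {x : S ⊗[K] A}
    (h₁ : CoalgebraStruct.comul (R := S) x = x ⊗ₜ[S] x) (h₂ : CoalgebraStruct.counit (R := S) x = 1) :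
    IsGL K A S x := by
  let c : (S ⊗[K] A) ⊗[S] (S ⊗[K] A) →ₐ[S] S ⊗[K] (A ⊗[K] A) :=
    Algebra.TensorProduct.lift (J₁ K A S) (J₂ K A S) fun _ _ => Commute.all _ _
  have e : c.comp (Bialgebra.comulAlgHom S (S ⊗[K] A)) = D K A S := by
    refine Algebra.TensorProduct.ext (Subsingleton.elim _ _) (AlgHom.ext fun a => ?_)
    simp only [AlgHom.comp_apply, AlgHom.coe_restrictScalars', Algebra.TensorProduct.includeRight_apply,
      Bialgebra.comulAlgHom_apply, TensorProduct.comul_tmul, CommSemiring.comul_apply, D,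
      Algebra.TensorProduct.map_tmul, AlgHom.id_apply]
    generalize CoalgebraStruct.comul (R := K) a = z
    induction z using TensorProduct.induction_on with
    | zero => simp
    | add p q hp hq => simp only [TensorProduct.tmul_add, map_add, hp, hq]
    | tmul p q =>
      simp [c, J₁, J₂, TensorProduct.AlgebraTensorModule.tensorTensorTensorComm_tmul,
        Algebra.TensorProduct.tmul_mul_tmul]
  have e' : (Bialgebra.counitAlgHom S (S ⊗[K] A)) = ev1 K A S := by
    refine Algebra.TensorProduct.ext (Subsingleton.elim _ _) (AlgHom.ext fun a => ?_)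
    simp [ev1, TensorProduct.counit_tmul, Algebra.smul_def]
  refine ⟨?_, ?_⟩
  · rw [← e, AlgHom.comp_apply, Bialgebra.comulAlgHom_apply, h₁, Algebra.TensorProduct.lift_tmul]
  · rw [← e']; exact h₂

theorem exists_split_of_iso {L : Type u} [Field L] [Algebra K L] {M : Type} [AddCommGroup M] {C : Type u}
    [CommRing C] [HopfAlgebra L C] (E : GLBasis L M C) (v : sp L (L ⊗[K] A) ≅ sp L C) [IsMonHom v.hom] :
    Nonempty (Split K A M L) := by
  obtain ⟨f, hf⟩ := exists_pt v.hom
  obtain ⟨f', hf'⟩ := exists_pt v.inv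
  haveI : IsMonHom (pt f) := hf ▸ inferInstance
  have h1 : f'.comp f = AlgHom.id L C := pt_injective (by rw [pt_comp, ← hf, ← hf', v.inv_hom_id, pt_id])
  have h2 : f.comp f' = AlgHom.id L (L ⊗[K] A) := pt_injective (by rw [pt_comp, ← hf, ← hf', v.hom_inv_id, pt_id])
  let φ : C ≃ₐ[L] L ⊗[K] A := AlgEquiv.ofAlgHom f f' h2 h1
  refine ⟨{
    e := E.e.map φ.toLinearEquiv
    e_zero := by simp [E.e_zero]
    e_add := fun a b => by simp [← E.e_mul]
    gl := fun a => ?_ }⟩
  rw [Module.Basis.map_apply]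
  show IsGL K A L (f (E.e a))
  refine isGL_of_groupLike ?_ ?_
  · have h := congrArg (fun x : WithConv (C →ₐ[L] (L ⊗[K] A) ⊗[L] (L ⊗[K] A)) => x (E.e a))
      (DiagRep.comul_comp_of_isMonHom f)
    simp only [AlgHom.convMul_apply, E.comul_e] at h
    simpa [Algebra.TensorProduct.tmul_mul_tmul] using h
  · have h := DFunLike.congr_fun (DiagRep.counit_comp_of_isMonHom f) (E.e a)
    simpa [E.counit_e] using h

theorem exists_diag_iso (R k : Type u) [CommRing R] [CommRing k] [Algebra R k] (M : Type) [AddCommGroup M] :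
    ∃ w : sp k (MonoidAlgebra k (Multiplicative M)) ≅
        Red.bc (baseHom R k) (sp R (MonoidAlgebra R (Multiplicative M))),
      IsMonHom w.hom ∧ IsMonHom w.inv := by
  obtain ⟨v, hv, hv'⟩ := exists_iso_of_basis (k := k) (C := k ⊗[R] MonoidAlgebra R (Multiplicative M))
    (C' := MonoidAlgebra k (Multiplicative M))
    ((DiagRep.monoidAlgebraBasis R M).bc k) (DiagRep.monoidAlgebraBasis k M)
  let f : Red.bc (baseHom R k) (sp R (MonoidAlgebra R (Multiplicative M))) ⟶
      sp k (k ⊗[R] MonoidAlgebra R (Multiplicative M)) := bcHom _ _ _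
  haveI : IsMonHom f := DiagRep.isMonHom_bcHom _ _ _
  haveI : IsIso f := inferInstanceAs (IsIso (bcHom _ _ _))
  refine ⟨v ≪≫ (asIso f).symm, ?_, ?_⟩
  · show IsMonHom (v.hom ≫ inv f)
    haveI : IsMonHom (inv f) := by
      show IsMonHom (asIso f).inv
      haveI : IsMonHom (asIso f).hom := DiagRep.isMonHom_bcHom _ _ _
      infer_instance
    infer_instance
  · show IsMonHom (f ≫ v.inv)
    infer_instance

theorem exists_DS_iso (k : Type u) [CommRing k] (M : Type) [AddCommGroup M] :
    ∃ w : sp k (MonoidAlgebra k (Multiplicative M)) ≅ Red.DS (Spec (CommRingCat.of k)) M,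
      IsMonHom w.hom ∧ IsMonHom w.inv := by
  letI : Algebra (ULift.{u} ℤ) k := ((Int.castRingHom k).comp ULift.ringEquiv.toRingHom).toAlgebra
  have e : Limits.IsTerminal.from specULiftZIsTerminal (Spec (CommRingCat.of k)) = baseHom (ULift.{u} ℤ) k :=
    specULiftZIsTerminal.hom_ext _ _
  unfold Red.DS
  rw [e]
  exact exists_diag_iso (ULift.{u} ℤ) k M

/-- A torus over a field: a Hopf algebra split over the algebraic closure. -/
theorem exists_torus_rep {K : Type u} [Field K] (T : Over (Spec (CommRingCat.of K))) [GrpObj T] {M : Type}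
    [AddCommGroup M] [Module.Finite ℤ M] (F : Type u) [Field F] [Algebra K F] [IsAlgClosed F]
    (hT : ∃ (L : Type u) (_ : Field L) (_ : Algebra K L),
      Red.IsSplitTorusWith M (Red.bc (baseHom K L) T)) :
    ∃ (A : Type u) (_ : CommRing A) (_ : HopfAlgebra K A) (v : sp K A ≅ T),
      IsMonHom v.hom ∧ IsMonHom v.inv ∧ Nonempty (Split K A M F) := by
  obtain ⟨L, _, _, ⟨e⟩⟩ := hT
  obtain ⟨w, hw, hw'⟩ := exists_DS_iso L M
  let j : Red.bc (baseHom K L) T ≅ Red.DS (Spec (CommRingCat.of L)) M := (Grp.forget _).mapIso e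
  haveI : IsMonHom j.hom := e.hom.hom.isMonHom_hom
  haveI : IsMonHom j.inv := e.inv.hom.isMonHom_hom
  let j' := j ≪≫ w.symm
  haveI : IsMonHom j'.hom := by show IsMonHom (j.hom ≫ w.inv); infer_instance
  have haff : IsAffine (Red.bc (baseHom K L) T).left := by
    haveI : IsIso j'.hom.left := inferInstanceAs (IsIso ((Over.forget _).mapIso j').hom)
    haveI : IsAffine (sp L (MonoidAlgebra L (Multiplicative M))).left :=
      inferInstanceAs (IsAffine (Spec (CommRingCat.of (MonoidAlgebra L (Multiplicative M)))))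
    exact IsAffine.of_isIso j'.hom.left
  obtain ⟨A, _, _, v, hv, hv'⟩ := exists_affine_rep T L haff
  haveI hb : IsMonHom (M := Red.bc (baseHom K L) (sp K A)) (N := Red.bc (baseHom K L) T)
      ((Over.pullback (baseHom K L)).map v.hom) :=
    @Functor.map.instIsMonHom _ _ _ _ _ _ (Over.pullback (baseHom K L)) _ _ _ _ _ v.hom _
  haveI : IsMonHom (asIso (bcHom K L A)).hom := DiagRep.isMonHom_bcHom K L A
  let t : sp L (L ⊗[K] A) ≅ sp L (MonoidAlgebra L (Multiplicative M)) :=
    ((asIso (bcHom K L A)).symm ≪≫ (Over.pullback (baseHom K L)).mapIso v) ≪≫ j'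
  haveI : IsMonHom t.hom := by
    show IsMonHom (((asIso (bcHom K L A)).inv ≫ (Over.pullback (baseHom K L)).map v.hom) ≫ j'.hom)
    infer_instance
  obtain ⟨E⟩ := exists_split_of_iso (C := MonoidAlgebra L (Multiplicative M)) (DiagRep.monoidAlgebraBasis L M) t
  exact ⟨A, inferInstance, inferInstance, v, hv, hv', exists_split_algClosure E F⟩

/-- A surjective bialgebra map to Laurent polynomials gives a subgroup `𝔾ₘ`. -/
theorem exists_mono_Gm {T : Over (Spec (CommRingCat.of K))} [GrpObj T] (v : sp K A ≅ T) [IsMonHom v.hom]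
    (ψ : A →ₐ[K] MonoidAlgebra K (Multiplicative ℤ)) (hs : Function.Surjective ψ)
    (h₁ : (Bialgebra.counitAlgHom K (MonoidAlgebra K (Multiplicative ℤ))).comp ψ = Bialgebra.counitAlgHom K A)
    (h₂ : (Algebra.TensorProduct.map ψ ψ).comp (Bialgebra.comulAlgHom K A) =
      (Bialgebra.comulAlgHom K (MonoidAlgebra K (Multiplicative ℤ))).comp ψ) :
    ∃ i : Red.Gm (Spec (CommRingCat.of K)) ⟶ T, IsMonHom i ∧ Mono i := by
  obtain ⟨w, hw, hw'⟩ := exists_DS_iso K ℤ
  haveI := DiagRep.isMonHom_pt ψ h₁ h₂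
  haveI : Mono (pt ψ) := DiagRep.mono_of_isClosedImmersion _ (by
    rw [pt_left]
    exact IsClosedImmersion.spec_of_surjective _ hs)
  exact ⟨w.inv ≫ pt ψ ≫ v.hom, inferInstance, inferInstance⟩

/-- Rational points as algebra maps. -/
def pointsHom {T : Over (Spec (CommRingCat.of K))} [GrpObj T] (v : sp K A ≅ T) [IsMonHom v.inv] :
    (𝟙_ (Over (Spec (CommRingCat.of K))) ⟶ T) →* WithConv (A →ₐ[K] K) :=
  MonoidHom.comp
    (N := (sp K K ⟶ sp K A))
    ((Spec.mapMulEquiv : WithConv (A →ₐ[K] K) ≃* (sp K K ⟶ sp K A)).symm.toMonoidHom)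
    { toFun := fun x => DiagRep.toBase ≫ x ≫ v.inv
      map_one' := by rw [MonObj.one_comp, MonObj.comp_one]
      map_mul' := fun x y => by rw [MonObj.mul_comp, MonObj.comp_mul] }

theorem pointsHom_injective {T : Over (Spec (CommRingCat.of K))} [GrpObj T] (v : sp K A ≅ T) [IsMonHom v.inv] :
    Function.Injective (pointsHom v) := by
  intro x y h
  exact (cancel_mono v.inv).1 ((cancel_epi (DiagRep.toBase (R := K))).1
    ((Spec.mapMulEquiv : WithConv (A →ₐ[K] K) ≃* (sp K K ⟶ sp K A)).symm.injective h))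

end Groth.Agent.TorusField
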