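import Groth.Agent.TorusFieldLib.Split
import Mathlib.FieldTheory.Galois.Infinite
import Mathlib.FieldTheory.IsAlgClosed.AlgebraicClosure
import Mathlib.FieldTheory.PurelyInseparable.Basic
import Mathlib.RingTheory.Jacobson.Ring
import Mathlib.LinearAlgebra.Dual.Lemmas

set_option autoImplicit false

/-!
Splitting over the algebraic closure, and the Galois action on the character group.
-/

noncomputable section

universe u w

open scoped TensorProduct

namespace Groth.Agent.TorusField

variable {K : Type u} [Field K] {A : Type u} [CommRing A] [Bialgebra K A] {M : Type w} [AddCommGroup M]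

theorem push_comp {S S' S'' : Type u} [CommRing S] [Algebra K S] [CommRing S'] [Algebra K S'] [CommRing S'']
    [Algebra K S''] (f : S →ₐ[K] S') (g : S' →ₐ[K] S'') (x : S ⊗[K] A) :
    push (g.comp f) x = push g (push f x) := by
  induction x using TensorProduct.induction_on with
  | zero => simp
  | add a b ha hb => simp only [map_add, ha, hb]
  | tmul s a => simp [push]

theorem push_id {S : Type u} [CommRing S] [Algebra K S] (x : S ⊗[K] A) : push (AlgHom.id K S) x = x := by
  induction x using TensorProduct.induction_on with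
  | zero => simp
  | add a b ha hb => simp only [map_add, ha, hb]
  | tmul s a => simp [push]

theorem exists_split_algClosure [Module.Finite ℤ M] {L : Type u} [Field L] [Algebra K L] (E : Split K A M L)
    (F : Type u) [Field F] [Algebra K F] [IsAlgClosed F] : Nonempty (Split K A M F) := by
  classical
  obtain ⟨T, hT⟩ : ∃ T : Finset M, AddSubmonoid.closure (T : Set M) = ⊤ := by
    obtain ⟨S, hS⟩ := (Module.Finite.iff_addGroup_fg.1 (inferInstance : Module.Finite ℤ M)).out
    refine ⟨S ∪ S.image Neg.neg, ?_⟩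
    rw [eq_top_iff]
    rintro x -
    have hx : x ∈ AddSubgroup.closure (S : Set M) := hS ▸ AddSubgroup.mem_top x
    have h2 := AddSubgroup.closure_toAddSubmonoid (S : Set M)
    have hx' : x ∈ AddSubmonoid.closure ((S : Set M) ∪ -(S : Set M)) := by rw [← h2]; exact hx
    refine AddSubmonoid.closure_mono ?_ hx'
    intro y hy
    rcases hy with hy | hy
    · simp [Finset.mem_coe.1 hy]
    · simp only [Finset.coe_union, Finset.coe_image, Set.mem_union, Set.mem_image]
      exact Or.inr ⟨-y, hy, neg_neg y⟩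
  choose c hc using fun t : M => TensorProduct.exists_finsupp_left (E.e t)
  -- generators of `A`
  let G : Set A := ⋃ t ∈ (T : Set M), ((c t).support : Set L).image (c t)
  have hGfin : G.Finite := T.finite_toSet.biUnion fun t _ => (c t).support.finite_toSet.image _
  have hgen : Algebra.adjoin K G = ⊤ := by
    let A₀ := Algebra.adjoin K G
    let W := (Algebra.TensorProduct.map (AlgHom.id L L) A₀.val).range
    have hW : ∀ m, E.e m ∈ W := by
      intro m
      have hm : m ∈ AddSubmonoid.closure (T : Set M) := hT ▸ AddSubmonoid.mem_top m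
      induction hm using AddSubmonoid.closure_induction with
      | mem t ht =>
        rw [hc t, Finsupp.sum]
        refine sum_mem fun l hl => ?_
        exact ⟨l ⊗ₜ ⟨c t l, Algebra.subset_adjoin (Set.mem_biUnion ht ⟨l, hl, rfl⟩)⟩, rfl⟩
      | zero => rw [E.e_zero]; exact one_mem W
      | add x y _ _ hx hy => rw [E.e_add]; exact mul_mem hx hy
    have hsurj : Function.Surjective (A₀.val.toLinearMap.lTensor L) := by
      intro x
      have hx : x ∈ W := by
        rw [← E.e.linearCombination_repr x, Finsupp.linearCombination_apply, Finsupp.sum]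
        exact sum_mem fun m _ => W.smul_mem (hW m) _
      exact hx
    have h := (Module.FaithfullyFlat.lTensor_surjective_iff_surjective K L A₀.val.toLinearMap).1 hsurj
    rw [eq_top_iff]
    rintro a -
    obtain ⟨b, hb⟩ := h a
    rw [← hb]; exact b.2
  -- coefficients
  let C : Set L := (⋃ t ∈ (T : Set M), ((c t).support : Set L)) ∪
    ⋃ a ∈ G, ((E.e.repr ((1 : L) ⊗ₜ[K] a)).support : Set M).image (E.e.repr ((1 : L) ⊗ₜ[K] a))
  have hCfin : C.Finite := (T.finite_toSet.biUnion fun t _ => (c t).support.finite_toSet).union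
    (hGfin.biUnion fun a _ => (Finset.finite_toSet _).image _)
  let R := Algebra.adjoin K C
  have hRft : Algebra.FiniteType K R := by
    refine Algebra.FiniteType.iff_quotient_mvPolynomial'.2 ?_ |>.out |> fun h => ⟨h⟩
    exact Algebra.FiniteType.iff_quotient_mvPolynomial'.1
      ((Subalgebra.fg_iff_finiteType _).1 ((Subalgebra.fg_def).2 ⟨C, hCfin, rfl⟩))
  let ι : R →ₐ[K] L := R.val
  have hι : Function.Injective (push (A := A) ι) :=
    Module.Flat.rTensor_preserves_injective_linearMap (M := A) ι.toLinearMap Subtype.val_injective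
  have hlift : ∀ m, ∃ x : R ⊗[K] A, push ι x = E.e m := by
    intro m
    have hm : m ∈ AddSubmonoid.closure (T : Set M) := hT ▸ AddSubmonoid.mem_top m
    induction hm using AddSubmonoid.closure_induction with
    | mem t ht =>
      refine (AlgHom.mem_range (push (A := A) ι)).1 ?_
      rw [hc t, Finsupp.sum]
      refine sum_mem fun l hl => ?_
      exact ⟨⟨l, Algebra.subset_adjoin (Or.inl (Set.mem_biUnion ht hl))⟩ ⊗ₜ c t l, rfl⟩
    | zero => exact ⟨1, by rw [map_one, E.e_zero]⟩
    | add x y _ _ hx hy =>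
      obtain ⟨p, hp⟩ := hx
      obtain ⟨q, hq⟩ := hy
      exact ⟨p * q, by rw [map_mul, hp, hq, E.e_add]⟩
  choose ε hε using hlift
  have ε_zero : ε 0 = 1 := hι (by rw [hε, map_one, E.e_zero])
  have ε_add : ∀ a b, ε (a + b) = ε a * ε b := fun a b => hι (by rw [hε, map_mul, hε, hε, E.e_add])
  have hli : LinearIndependent R ε := by
    rw [linearIndependent_iff]
    intro l hl
    have h := congrArg (push ι) hl
    rw [Finsupp.linearCombination_apply, Finsupp.sum, map_sum, map_zero] at h
    simp only [push_smul, hε] at h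
    ext m
    have := linearIndependent_iff'.1 E.e.linearIndependent l.support (fun m => ι (l m)) h m
    by_cases hm : m ∈ l.support
    · simpa [ι] using this hm
    · simpa using hm
  have hspan : ⊤ ≤ Submodule.span R (Set.range ε) := by
    let B : Subalgebra R (R ⊗[K] A) := (Submodule.span R (Set.range ε)).toSubalgebra
      (Submodule.subset_span ⟨0, ε_zero⟩) (fun x y hx hy => by
        have h := Submodule.mul_mem_mul hx hy
        rw [Submodule.span_mul_span] at h
        refine Submodule.span_mono ?_ h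
        rintro z ⟨p, ⟨a, rfl⟩, q, ⟨b, rfl⟩, rfl⟩
        exact ⟨a + b, ε_add a b⟩)
    have hA : ∀ a : A, (1 : R) ⊗ₜ[K] a ∈ B := by
      intro a
      have ha : a ∈ Algebra.adjoin K G := hgen ▸ Algebra.mem_top
      have : a ∈ (B.restrictScalars K).comap (Algebra.TensorProduct.includeRight : A →ₐ[K] R ⊗[K] A) := by
        refine Algebra.adjoin_le (fun b hb => ?_) ha
        show (1 : R) ⊗ₜ[K] b ∈ Submodule.span R (Set.range ε)
        let f := E.e.repr ((1 : L) ⊗ₜ[K] b)
        have e : (1 : R) ⊗ₜ[K] b = ∑ m ∈ f.support.attach,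
            (⟨f m, Algebra.subset_adjoin (Or.inr (Set.mem_biUnion hb ⟨m, m.2, rfl⟩))⟩ : R) • ε m := by
          apply hι
          rw [map_sum]
          simp only [push_smul, hε]
          conv_lhs => rw [show push ι ((1 : R) ⊗ₜ[K] b) = (1 : L) ⊗ₜ[K] b from rfl,
            ← E.e.linearCombination_repr ((1 : L) ⊗ₜ[K] b), Finsupp.linearCombination_apply, Finsupp.sum]
          exact (Finset.sum_attach f.support fun m => f m • E.e m).symm
        rw [e]
        exact sum_mem fun m _ => Submodule.smul_mem _ _ (Submodule.subset_span ⟨m, rfl⟩)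
      exact this
    rintro x -
    induction x using TensorProduct.induction_on with
    | zero => exact zero_mem _
    | add p q hp hq => exact add_mem hp hq
    | tmul r a =>
      rw [show r ⊗ₜ[K] a = r • ((1 : R) ⊗ₜ[K] a) by rw [TensorProduct.smul_tmul', smul_eq_mul, mul_one]]
      exact Submodule.smul_mem _ r (hA a)
  have ER : Split K A M R := {
    e := Module.Basis.mk hli hspan
    e_zero := by rw [Module.Basis.mk_apply, ε_zero]
    e_add := fun a b => by simp only [Module.Basis.mk_apply, ε_add]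
    gl := fun a => by
      rw [Module.Basis.mk_apply]
      exact IsGL.of_push ι Subtype.val_injective (by rw [hε]; exact E.gl a) }
  obtain ⟨m, hm⟩ := Ideal.exists_maximal R
  letI := Ideal.Quotient.field m
  haveI : Module.Finite K (R ⧸ m) := finite_of_finite_type_of_isJacobsonRing K (R ⧸ m)
  obtain ⟨E', -⟩ := exists_split_push ER
    ((IsAlgClosed.lift (R := K) (S := R ⧸ m) (M := F)).comp (Ideal.Quotient.mkₐ K m))
  exact ⟨E'⟩

variable {F : Type u} [Field F] [Algebra K F] (E : Split K A M F)

/-- The action of automorphisms on characters. -/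
theorem exists_rep [Module.Finite ℤ M] [Algebra.IsAlgebraic K F] :
    ∃ ρ : (F ≃ₐ[K] F) →* (M ≃ₗ[ℤ] M), (∀ σ m, push σ.toAlgHom (E.e m) = E.e (ρ σ m)) ∧ (Set.range ρ).Finite := by
  classical
  choose g hg using fun (σ : F ≃ₐ[K] F) (m : M) => E.exists_eq ((E.gl m).push σ.toAlgHom)
  have hinj : Function.Injective E.e := E.e.injective
  have hcomp : ∀ σ τ m, g (σ * τ) m = g σ (g τ m) := fun σ τ m => hinj (by
    rw [← hg, ← hg, ← hg, ← push_comp]; rfl)
  have hone : ∀ m, g 1 m = m := fun m => hinj (by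
    rw [← hg]
    exact push_id _)
  have hadd : ∀ σ a b, g σ (a + b) = g σ a + g σ b := fun σ a b => hinj (by
    rw [E.e_add, ← hg, ← hg, ← hg, E.e_add, map_mul])
  let ρ : (F ≃ₐ[K] F) →* (M ≃ₗ[ℤ] M) :=
    { toFun := fun σ => AddEquiv.toIntLinearEquiv
        { toFun := g σ
          invFun := g σ⁻¹
          left_inv := fun m => by rw [← hcomp, inv_mul_cancel, hone]
          right_inv := fun m => by rw [← hcomp, mul_inv_cancel, hone]
          map_add' := hadd σ }
      map_one' := LinearEquiv.ext hone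
      map_mul' := fun σ τ => LinearEquiv.ext (hcomp σ τ) }
  refine ⟨ρ, fun σ m => hg σ m, ?_⟩
  obtain ⟨T, hT⟩ := (Module.Finite.iff_addGroup_fg.1 (inferInstance : Module.Finite ℤ M)).out
  choose c hc using fun t : M => TensorProduct.exists_finsupp_left (E.e t)
  let S : Set F := ⋃ t ∈ (T : Set M), ((c t).support : Set F)
  have hS : S.Finite := T.finite_toSet.biUnion fun t _ => (c t).support.finite_toSet
  haveI := hS.to_subtype
  have key : ∀ σ τ : F ≃ₐ[K] F, (∀ s ∈ S, σ s = τ s) → ρ σ = ρ τ := by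
    intro σ τ h
    refine LinearEquiv.ext fun x => DFunLike.congr_fun
      (AddMonoidHom.eq_of_eqOn_dense (f := (ρ σ).toLinearMap.toAddMonoidHom) (g := (ρ τ).toLinearMap.toAddMonoidHom) hT
        fun t ht => hinj ?_) x
    show E.e (g σ t) = E.e (g τ t)
    rw [← hg, ← hg, hc t, Finsupp.sum, map_sum, map_sum]
    refine Finset.sum_congr rfl fun l hl => ?_
    show σ l ⊗ₜ[K] c t l = τ l ⊗ₜ[K] c t l
    rw [h l (Set.mem_biUnion ht hl)]
  let φ : (F ≃ₐ[K] F) → (S → F) := fun σ s => σ s
  have hφ : (Set.range φ).Finite := by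
    refine (Set.Finite.pi' (t := fun s : S => (minpoly K (s : F)).rootSet F)
      fun s => Polynomial.rootSet_finite _ _).subset ?_
    rintro _ ⟨σ, rfl⟩ s
    rw [Polynomial.mem_rootSet]
    exact ⟨minpoly.ne_zero (Algebra.IsIntegral.isIntegral _), by
      show Polynomial.aeval (σ.toAlgHom (s : F)) _ = 0
      rw [Polynomial.aeval_algHom_apply, minpoly.aeval, map_zero]⟩
  haveI := hφ.to_subtype
  refine Set.Finite.subset (Set.finite_range fun f : Set.range φ => ρ f.2.choose) ?_
  rintro _ ⟨σ, rfl⟩
  refine ⟨⟨φ σ, σ, rfl⟩, key _ _ fun s hs => ?_⟩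
  exact congrFun (Exists.choose_spec (⟨σ, rfl⟩ : ∃ y, φ y = φ σ)) ⟨s, hs⟩

/-- Coefficients in the group-like basis transform through the action. -/
theorem repr_equivariant (ρ : (F ≃ₐ[K] F) →* (M ≃ₗ[ℤ] M)) (hρ : ∀ σ m, push σ.toAlgHom (E.e m) = E.e (ρ σ m))
    (σ : F ≃ₐ[K] F) (a : A) (m : M) :
    σ (E.e.repr ((1 : F) ⊗ₜ[K] a) m) = E.e.repr ((1 : F) ⊗ₜ[K] a) (ρ σ m) := by
  classical
  set f := E.e.repr ((1 : F) ⊗ₜ[K] a)
  have h : push σ.toAlgHom ((1 : F) ⊗ₜ[K] a) = (1 : F) ⊗ₜ[K] a := by simp [push]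
  conv_lhs at h => rw [← E.e.linearCombination_repr ((1 : F) ⊗ₜ[K] a)]
  rw [Finsupp.linearCombination_apply, Finsupp.sum, map_sum] at h
  simp only [push_smul, hρ] at h
  have h' := congrArg (fun x => E.e.repr x (ρ σ m)) h
  simp only [map_sum, map_smul, Module.Basis.repr_self, Finsupp.coe_finsetSum, Finset.sum_apply,
    Finsupp.smul_single, smul_eq_mul, mul_one, Finsupp.single_apply] at h'
  rw [show f (ρ σ m) = E.e.repr ((1 : F) ⊗ₜ[K] a) (ρ σ m) from rfl, ← h']
  simp only [EmbeddingLike.apply_eq_iff_eq, Finset.sum_ite_eq']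
  split_ifs with hm
  · rfl
  · rw [show f m = 0 from Finsupp.notMem_support_iff.1 hm, map_zero]

/-- The coefficients are separable. -/
theorem repr_mem_separableClosure [Algebra.IsAlgebraic K F] (a : A) (m : M) :
    E.e.repr ((1 : F) ⊗ₜ[K] a) m ∈ separableClosure K F := by
  classical
  let Ks := separableClosure K F
  let i₁ : F →ₐ[K] F ⊗[Ks] F :=
    (Algebra.TensorProduct.includeLeft : F →ₐ[Ks] F ⊗[Ks] F).restrictScalars K
  let i₂ : F →ₐ[K] F ⊗[Ks] F :=
    (Algebra.TensorProduct.includeRight : F →ₐ[Ks] F ⊗[Ks] F).restrictScalars K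
  let μ : F ⊗[Ks] F →ₐ[K] F := (Algebra.TensorProduct.lmul' Ks (S := F)).restrictScalars K
  have h₁ : μ.comp i₁ = AlgHom.id K F := by ext x; simp [μ, i₁]
  have h₂ : μ.comp i₂ = AlgHom.id K F := by ext x; simp [μ, i₂]
  have hnil : ∀ x, μ x = 0 → IsNilpotent x := by
    intro x hx
    obtain ⟨N, hN, y, hy⟩ := IsPurelyInseparable.exists_pow_mem_range_tensorProduct (R := F) x
    refine ⟨N, ?_⟩
    have h := congrArg μ hy
    rw [map_pow, hx, zero_pow hN.ne'] at h
    have hy0 : y = 0 := by simpa [μ, Algebra.TensorProduct.algebraMap_apply] using h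
    rw [← hy, hy0, map_zero]
  obtain ⟨E₁, hE₁⟩ := exists_split_push E i₁
  have he : ∀ c, push i₂ (E.e c) = E₁.e c := fun c =>
    E₁.eq_of_push_eq μ hnil ((E.gl c).push i₂) c (by rw [hE₁, ← push_comp, ← push_comp, h₁, h₂])
  set f := E.e.repr ((1 : F) ⊗ₜ[K] a)
  have key : ∀ (i : F →ₐ[K] F ⊗[Ks] F), (∀ c, push i (E.e c) = E₁.e c) →
      E₁.e.repr ((1 : F ⊗[Ks] F) ⊗ₜ[K] a) m = i (f m) := by
    intro i hi
    have h : push i ((1 : F) ⊗ₜ[K] a) = (1 : F ⊗[Ks] F) ⊗ₜ[K] a := by simp [push]
    rw [← h]
    conv_lhs => rw [← E.e.linearCombination_repr ((1 : F) ⊗ₜ[K] a)]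
    simp only [Finsupp.linearCombination_apply, Finsupp.sum, map_sum, push_smul, hi, map_smul,
      Module.Basis.repr_self, Finsupp.coe_finsetSum, Finset.sum_apply, Finsupp.smul_single, smul_eq_mul, mul_one,
      Finsupp.single_apply, Finset.sum_ite_eq']
    split_ifs with hm
    · rfl
    · rw [show f m = 0 from Finsupp.notMem_support_iff.1 hm, map_zero]
  have h := (key i₁ fun c => (hE₁ c).symm).symm.trans (key i₂ he)
  by_contra hmem
  have hns : f m ∉ (Algebra.linearMap Ks F).range := by
    rintro ⟨k, hk⟩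
    exact hmem (hk ▸ k.2)
  obtain ⟨φ, hφ, hφ1⟩ := Submodule.exists_dual_map_eq_bot_of_notMem hns inferInstance
  have h1 : φ 1 = 0 := by
    have : φ 1 ∈ (Algebra.linearMap Ks F).range.map φ := ⟨1, ⟨1, by simp⟩, rfl⟩
    rwa [hφ1, Submodule.mem_bot] at this
  have e := congrArg (TensorProduct.lift ((LinearMap.lsmul Ks F).comp φ)) h
  simp [i₁, i₂, h1] at e
  exact hφ e

theorem mem_range_of_fixed [IsAlgClosure K F] {x : F} (hsep : x ∈ separableClosure K F)
    (hfix : ∀ σ : F ≃ₐ[K] F, σ x = x) : x ∈ Set.range (algebraMap K F) := by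
  haveI := IsAlgClosure.isAlgClosed (R := K) (K := F)
  haveI := IsAlgClosure.isAlgebraic (R := K) (K := F)
  haveI := IsAlgClosure.normal K F
  haveI : IsGalois K (separableClosure K F) := separableClosure.isGalois K F
  obtain ⟨k, hk⟩ := (InfiniteGalois.mem_range_algebraMap_iff_fixed (k := K) (⟨x, hsep⟩ : separableClosure K F)).2
    (fun σ => Subtype.ext (by
      have h := hfix (σ.liftNormal F)
      have h' := σ.liftNormal_commutes F (⟨x, hsep⟩ : separableClosure K F)
      exact h'.symm.trans h))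
  exact ⟨k, congrArg Subtype.val hk⟩

end Groth.Agent.TorusField
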