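import Mathlib.RingTheory.Bialgebra.Basic
import Mathlib.RingTheory.TensorProduct.Free
import Mathlib.RingTheory.Flat.FaithfullyFlat.Basic
import Mathlib.FieldTheory.PurelyInseparable.Basic
import Mathlib.Algebra.Algebra.Hom

set_option autoImplicit false

/-!
Splittings of bialgebras over a field by group-like bases after extension of scalars.
-/

noncomputable section

universe u w

open scoped TensorProduct

namespace Groth.Agent.TorusField

variable (K : Type u) [CommRing K] (A : Type u) [CommRing A] [Bialgebra K A]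

/-- The comultiplication with scalars extended. -/
def D (S : Type u) [CommRing S] [Algebra K S] : S ⊗[K] A →ₐ[S] S ⊗[K] (A ⊗[K] A) :=
  Algebra.TensorProduct.map (AlgHom.id S S) (Bialgebra.comulAlgHom K A)

/-- The first inclusion. -/
def J₁ (S : Type u) [CommRing S] [Algebra K S] : S ⊗[K] A →ₐ[S] S ⊗[K] (A ⊗[K] A) :=
  Algebra.TensorProduct.map (AlgHom.id S S) Algebra.TensorProduct.includeLeft

/-- The second inclusion. -/
def J₂ (S : Type u) [CommRing S] [Algebra K S] : S ⊗[K] A →ₐ[S] S ⊗[K] (A ⊗[K] A) :=
  Algebra.TensorProduct.map (AlgHom.id S S) Algebra.TensorProduct.includeRight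

/-- The counit with scalars extended. -/
def ev1 (S : Type u) [CommRing S] [Algebra K S] : S ⊗[K] A →ₐ[S] S :=
  Algebra.TensorProduct.lift (AlgHom.id S S) ((Algebra.ofId K S).comp (Bialgebra.counitAlgHom K A)) fun _ _ =>
    Commute.all _ _

/-- A group-like element over `S`. -/
def IsGL (S : Type u) [CommRing S] [Algebra K S] (x : S ⊗[K] A) : Prop :=
  D K A S x = J₁ K A S x * J₂ K A S x ∧ ev1 K A S x = 1

variable {K A} {S S' : Type u} [CommRing S] [Algebra K S] [CommRing S'] [Algebra K S']

/-- Change of scalars. -/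
def push (f : S →ₐ[K] S') : S ⊗[K] A →ₐ[K] S' ⊗[K] A :=
  Algebra.TensorProduct.map f (AlgHom.id K A)

/-- Change of scalars on the double tensor product. -/
def push₂ (f : S →ₐ[K] S') : S ⊗[K] (A ⊗[K] A) →ₐ[K] S' ⊗[K] (A ⊗[K] A) :=
  Algebra.TensorProduct.map f (AlgHom.id K _)

theorem push_smul (f : S →ₐ[K] S') (s : S) (x : S ⊗[K] A) : push f (s • x) = f s • push f x := by
  rw [Algebra.smul_def, Algebra.smul_def, map_mul]
  congr 1

theorem push_D (f : S →ₐ[K] S') (x : S ⊗[K] A) : push₂ f (D K A S x) = D K A S' (push f x) := by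
  induction x using TensorProduct.induction_on with
  | zero => simp
  | add a b ha hb => simp only [map_add, ha, hb]
  | tmul s a => simp [push, push₂, D]

theorem push_J₁ (f : S →ₐ[K] S') (x : S ⊗[K] A) : push₂ f (J₁ K A S x) = J₁ K A S' (push f x) := by
  induction x using TensorProduct.induction_on with
  | zero => simp
  | add a b ha hb => simp only [map_add, ha, hb]
  | tmul s a => simp [push, push₂, J₁]

theorem push_J₂ (f : S →ₐ[K] S') (x : S ⊗[K] A) : push₂ f (J₂ K A S x) = J₂ K A S' (push f x) := by
  induction x using TensorProduct.induction_on with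
  | zero => simp
  | add a b ha hb => simp only [map_add, ha, hb]
  | tmul s a => simp [push, push₂, J₂]

theorem push_ev1 (f : S →ₐ[K] S') (x : S ⊗[K] A) : f (ev1 K A S x) = ev1 K A S' (push f x) := by
  induction x using TensorProduct.induction_on with
  | zero => simp
  | add a b ha hb => simp only [map_add, ha, hb]
  | tmul s a => simp [push, ev1]

theorem IsGL.push (f : S →ₐ[K] S') {x : S ⊗[K] A} (h : IsGL K A S x) : IsGL K A S' (TorusField.push f x) :=
  ⟨by rw [← push_D, h.1, map_mul, push_J₁, push_J₂], by rw [← push_ev1, h.2, map_one]⟩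

theorem IsGL.of_push [Module.Flat K A] (f : S →ₐ[K] S') (hf : Function.Injective f) {x : S ⊗[K] A}
    (h : IsGL K A S' (TorusField.push f x)) : IsGL K A S x := by
  have h2 : Function.Injective (push₂ (A := A) f) :=
    Module.Flat.rTensor_preserves_injective_linearMap (M := A ⊗[K] A) f.toLinearMap hf
  refine ⟨h2 ?_, hf ?_⟩
  · rw [push_D, map_mul, push_J₁, push_J₂, h.1]
  · rw [push_ev1, h.2, map_one]

theorem IsGL.mul {x y : S ⊗[K] A} (hx : IsGL K A S x) (hy : IsGL K A S y) : IsGL K A S (x * y) :=
  ⟨by rw [map_mul, map_mul, map_mul, hx.1, hy.1, mul_mul_mul_comm], by rw [map_mul, hx.2, hy.2, one_mul]⟩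

variable (K A) in
/-- A basis of `S ⊗ A` by group-like elements multiplying as `M`. -/
structure Split (M : Type w) [AddCommGroup M] (S : Type u) [CommRing S] [Algebra K S] where
  e : Module.Basis M S (S ⊗[K] A)
  e_zero : e 0 = 1
  e_add : ∀ a b, e (a + b) = e a * e b
  gl : ∀ a, IsGL K A S (e a)

variable {M : Type w} [AddCommGroup M]

/-- The multiplicative map of a splitting. -/
def Split.hom (E : Split K A M S) : Multiplicative M →* S ⊗[K] A where
  toFun a := E.e a.toAdd
  map_one' := E.e_zero
  map_mul' a b := E.e_add _ _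

theorem exists_basis_push {ι : Type w} (b : Module.Basis ι S (S ⊗[K] A)) (f : S →ₐ[K] S') :
    ∃ b' : Module.Basis ι S' (S' ⊗[K] A), ∀ i, b' i = push f (b i) := by
  letI := f.toRingHom.toAlgebra
  haveI : IsScalarTower K S S' := IsScalarTower.of_algebraMap_eq fun x => (f.commutes x).symm
  refine ⟨(Algebra.TensorProduct.basis S' b).map
    (TensorProduct.AlgebraTensorModule.cancelBaseChange K S S' S' A), fun i => ?_⟩
  rw [Module.Basis.map_apply, Algebra.TensorProduct.basis_apply]
  generalize b i = x
  induction x using TensorProduct.induction_on with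
  | zero => simp
  | add a c ha hc => simp only [TensorProduct.tmul_add, map_add, ha, hc]
  | tmul s a =>
    rw [TensorProduct.AlgebraTensorModule.cancelBaseChange_tmul, Algebra.smul_def, mul_one]
    rfl

theorem exists_split_push (E : Split K A M S) (f : S →ₐ[K] S') :
    ∃ E' : Split K A M S', ∀ a, E'.e a = push f (E.e a) := by
  obtain ⟨b, hb⟩ := exists_basis_push E.e f
  exact ⟨⟨b, by rw [hb, E.e_zero, map_one], fun a c => by rw [hb, hb, hb, E.e_add, map_mul],
    fun a => by rw [hb]; exact (E.gl a).push f⟩, hb⟩

theorem tensor_ext {ι : Type w} (b : Module.Basis ι S (S ⊗[K] A)) {N : Type u} [AddCommGroup N] [Module S N]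
    {f g : S ⊗[K] A →ₗ[S] N} (h : ∀ i, f (b i) = g (b i)) : f = g := b.ext h

/-- Coefficients of group-like elements are orthogonal idempotents. -/
theorem Split.repr_idem [DecidableEq M] (E : Split K A M S) {x : S ⊗[K] A} (hx : IsGL K A S x) (a b : M) :
    E.e.repr x a * E.e.repr x b = if a = b then E.e.repr x a else 0 := by
  classical
  let L : S ⊗[K] (A ⊗[K] A) →ₗ[S] M × M →₀ S :=
    (finsuppTensorFinsupp' S M M).toLinearMap ∘ₗ
      (TensorProduct.congr E.e.repr E.e.repr).toLinearMap ∘ₗ
      (TensorProduct.AlgebraTensorModule.cancelBaseChange K S S (S ⊗[K] A) A).symm.toLinearMap ∘ₗ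
      (TensorProduct.AlgebraTensorModule.assoc K K S S A A).symm.toLinearMap
  have hL : ∀ u v : S ⊗[K] A, L (J₁ K A S u * J₂ K A S v) =
      finsuppTensorFinsupp' S M M (E.e.repr u ⊗ₜ[S] E.e.repr v) := by
    intro u v
    induction u using TensorProduct.induction_on with
    | zero => simp
    | add p q hp hq => simp only [map_add, add_mul, TensorProduct.add_tmul, hp, hq]
    | tmul s p =>
      induction v using TensorProduct.induction_on with
      | zero => simp
      | add c d hc hd => simp only [map_add, mul_add, TensorProduct.tmul_add, hc, hd]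
      | tmul t q =>
        simp only [J₁, J₂, Algebra.TensorProduct.map_tmul, AlgHom.id_apply,
          Algebra.TensorProduct.includeLeft_apply, Algebra.TensorProduct.includeRight_apply,
          Algebra.TensorProduct.tmul_mul_tmul, one_mul, mul_one, L, LinearMap.comp_apply, LinearEquiv.coe_coe]
        rw [TensorProduct.AlgebraTensorModule.assoc_symm_tmul,
          TensorProduct.AlgebraTensorModule.cancelBaseChange_symm_tmul, TensorProduct.congr_tmul,
          show t ⊗ₜ[K] q = t • ((1 : S) ⊗ₜ[K] q) by rw [TensorProduct.smul_tmul', smul_eq_mul, mul_one],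
          map_smul, TensorProduct.tmul_smul, show (s * t) ⊗ₜ[K] p = t • (s ⊗ₜ[K] p) by
            rw [TensorProduct.smul_tmul', smul_eq_mul, mul_comm], map_smul, ← TensorProduct.smul_tmul']
  have e : L.comp (D K A S).toLinearMap =
      (Finsupp.lmapDomain S S fun i => (i, i)) ∘ₗ E.e.repr.toLinearMap := by
    refine E.e.ext fun i => ?_
    simp only [LinearMap.comp_apply, AlgHom.toLinearMap_apply, (E.gl i).1, hL, LinearEquiv.coe_coe,
      Module.Basis.repr_self, Finsupp.lmapDomain_apply, Finsupp.mapDomain_single,
      finsuppTensorFinsupp'_single_tmul_single, one_mul]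
  have h := DFunLike.congr_fun (congrArg (fun z : S ⊗[K] (A ⊗[K] A) => L z) hx.1) (a, b)
  rw [show L (D K A S x) = _ from LinearMap.congr_fun e x, hL] at h
  rw [finsuppTensorFinsupp'_apply_apply] at h
  rw [← h, LinearMap.comp_apply, LinearEquiv.coe_coe, Finsupp.lmapDomain_apply]
  split_ifs with hab
  · subst hab
    exact Finsupp.mapDomain_apply (fun i j hij => congrArg Prod.fst hij) _ a
  · refine Finsupp.mapDomain_notin_range _ _ ?_
    rintro ⟨i, hi⟩
    exact hab ((congrArg Prod.fst hi).symm.trans (congrArg Prod.snd hi))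

theorem Split.sum_repr_gl (E : Split K A M S) {x : S ⊗[K] A} (hx : IsGL K A S x) :
    ((E.e.repr x).sum fun _ c => c) = 1 := by
  have e : (ev1 K A S).toLinearMap = (Finsupp.linearCombination S fun _ : M => (1 : S)) ∘ₗ E.e.repr.toLinearMap := by
    refine E.e.ext fun i => ?_
    simp [(E.gl i).2]
  have h := LinearMap.congr_fun e x
  rw [AlgHom.toLinearMap_apply, hx.2, LinearMap.comp_apply, LinearEquiv.coe_coe,
    Finsupp.linearCombination_apply] at h
  simpa [Finsupp.sum] using h.symm

/-- Over a domain, the group-like elements are exactly the basis. -/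
theorem Split.exists_eq [IsDomain S] (E : Split K A M S) {x : S ⊗[K] A} (hx : IsGL K A S x) :
    ∃ a, x = E.e a := by
  classical
  obtain ⟨a, -, ha⟩ := Finset.exists_ne_zero_of_sum_ne_zero (s := (E.e.repr x).support)
    (f := fun a => E.e.repr x a) (by
      have := E.sum_repr_gl hx
      rw [Finsupp.sum] at this
      rw [this]; exact one_ne_zero)
  refine ⟨a, E.e.ext_elem fun b => ?_⟩
  rw [Module.Basis.repr_self, Finsupp.single_apply]
  apply mul_left_cancel₀ ha
  rw [E.repr_idem hx]
  split_ifs <;> simp

/-- Group-like elements with the same image under a map with nil kernel agree. -/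
theorem Split.eq_of_push_eq (E : Split K A M S) (μ : S →ₐ[K] S') (hμ : ∀ x, μ x = 0 → IsNilpotent x)
    {x : S ⊗[K] A} (hx : IsGL K A S x) (a : M) (h : push μ x = push μ (E.e a)) : x = E.e a := by
  classical
  obtain ⟨b, hb⟩ := exists_basis_push E.e μ
  have hc : ∀ c, b.repr (push μ x) c = μ (E.e.repr x c) := by
    intro c
    conv_lhs => rw [← E.e.linearCombination_repr x]
    simp only [Finsupp.linearCombination_apply, Finsupp.sum, map_sum, push_smul, ← hb, map_smul,
      Module.Basis.repr_self, Finsupp.coe_finsetSum, Finset.sum_apply, Finsupp.smul_single, smul_eq_mul, mul_one,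
      Finsupp.single_apply, Finset.sum_ite_eq']
    split_ifs with hm
    · rfl
    · rw [Finsupp.notMem_support_iff.1 hm, map_zero]
  refine E.e.ext_elem fun c => ?_
  rw [Module.Basis.repr_self, Finsupp.single_apply]
  have hi : IsIdempotentElem (E.e.repr x c) := by
    have := E.repr_idem hx c c
    rwa [if_pos rfl] at this
  have hμc : μ (E.e.repr x c) = if a = c then 1 else 0 := by
    rw [← hc, h, ← hb, Module.Basis.repr_self, Finsupp.single_apply]
  split_ifs with hac
  · rw [if_pos hac] at hμc
    have := (hi.one_sub).eq_zero_of_isNilpotent (hμ _ (by rw [map_sub, map_one, hμc, sub_self]))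
    exact (sub_eq_zero.1 this).symm
  · rw [if_neg hac] at hμc
    exact hi.eq_zero_of_isNilpotent (hμ _ hμc)

end Groth.Agent.TorusField
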