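import Mathlib.LinearAlgebra.Matrix.GeneralLinearGroup.Defs
import Mathlib.LinearAlgebra.Matrix.Determinant.Basic
import Mathlib.LinearAlgebra.Matrix.ToLin
import Mathlib.Data.ZMod.Basic
import Mathlib.Tactic

set_option autoImplicit false

/-!
Invariant characters modulo `d` of a lattice with a finite group action.
-/

namespace Groth.Agent.TorusField

open Matrix

variable {n : ℕ} {d : ℕ}

/-- The kernel of reduction: invariant integral forms. -/
def NoInvariant (H : Subgroup (Matrix.GeneralLinearGroup (Fin n) ℤ)) : Prop :=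
  ∀ y : Fin n → ℤ, (∀ h ∈ H, y ᵥ* (h : Matrix (Fin n) (Fin n) ℤ) = y) → y = 0

theorem intCast_vecMul (y : Fin n → ℤ) (h : Matrix (Fin n) (Fin n) ℤ) :
    (fun i => ((y ᵥ* h) i : ZMod d)) = (fun i => (y i : ZMod d)) ᵥ* h.map (Int.castRingHom (ZMod d)) := by
  funext i
  simp [Matrix.vecMul, dotProduct, Matrix.map_apply]

theorem dvd_card [NeZero d] (H : Subgroup (Matrix.GeneralLinearGroup (Fin n) ℤ)) [Fintype H]
    (hno : NoInvariant H) (χ : Fin n → ZMod d)
    (hχ : ∀ h ∈ H, χ ᵥ* (h : Matrix (Fin n) (Fin n) ℤ).map (Int.castRingHom (ZMod d)) = χ)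
    (hord : ∀ k : ℕ, k • χ = 0 → d ∣ k) : d ∣ Nat.card H := by
  classical
  let z : Fin n → ℤ := fun i => ((χ i).val : ℤ)
  have hz : (fun i => (z i : ZMod d)) = χ := by
    funext i; simp [z]
  let y : Fin n → ℤ := ∑ h : H, z ᵥ* ((h : Matrix.GeneralLinearGroup (Fin n) ℤ) : Matrix (Fin n) (Fin n) ℤ)
  have hy : y = 0 := by
    refine hno y fun g hg => ?_
    simp only [y, Matrix.sum_vecMul, Matrix.vecMul_vecMul]
    exact Fintype.sum_equiv (Equiv.mulRight (⟨g, hg⟩ : H)) _ _ fun h => rfl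
  apply hord
  funext i
  have h1 : ((y i : ℤ) : ZMod d) = (Nat.card H • χ) i := by
    simp only [y, Finset.sum_apply, Int.cast_sum]
    have : ∀ h : H, ((z ᵥ* ((h : Matrix.GeneralLinearGroup (Fin n) ℤ) : Matrix (Fin n) (Fin n) ℤ)) i : ZMod d) =
        χ i := fun h => by
      rw [congrFun (intCast_vecMul (d := d) z _) i, hz, hχ _ h.2]
    simp [this, Nat.card_eq_fintype_card]
  rw [← h1, hy]
  simp

theorem exists_surjective (H : Subgroup (Matrix.GeneralLinearGroup (Fin n) ℤ)) (hno : ¬ NoInvariant H) :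
    ∃ y : (Fin n → ℤ) →+ ℤ, Function.Surjective y ∧
      ∀ h ∈ H, ∀ v, y ((h : Matrix (Fin n) (Fin n) ℤ) *ᵥ v) = y v := by
  simp only [NoInvariant, not_forall] at hno
  obtain ⟨y, hy, hy0⟩ := hno
  let f : (Fin n → ℤ) →+ ℤ :=
    { toFun := fun v => y ⬝ᵥ v
      map_zero' := dotProduct_zero y
      map_add' := fun a b => dotProduct_add y a b }
  obtain ⟨g, hg⟩ := Int.subgroup_cyclic f.range
  have hg0 : g ≠ 0 := by
    rintro rfl
    apply hy0
    funext i
    have : f (Pi.single i 1) ∈ f.range := ⟨_, rfl⟩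
    rw [hg, AddSubgroup.closure_singleton_zero, AddSubgroup.mem_bot] at this
    simpa [f] using this
  have hdvd : ∀ v, g ∣ f v := by
    intro v
    have : f v ∈ f.range := ⟨v, rfl⟩
    rw [hg, AddSubgroup.mem_closure_singleton] at this
    obtain ⟨k, hk⟩ := this
    exact ⟨k, by rw [← hk, smul_eq_mul, mul_comm]⟩
  choose q hq using hdvd
  refine ⟨⟨⟨q, mul_left_cancel₀ hg0 (by rw [← hq, map_zero, mul_zero])⟩,
    fun a b => mul_left_cancel₀ hg0 (by rw [← hq, map_add, hq, hq, mul_add])⟩, ?_, ?_⟩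
  · intro k
    have : g * k ∈ f.range := by
      rw [hg, AddSubgroup.mem_closure_singleton]; exact ⟨k, by rw [smul_eq_mul, mul_comm]⟩
    obtain ⟨v, hv⟩ := this
    exact ⟨v, mul_left_cancel₀ hg0 (by rw [← hv]; exact (hq v).symm)⟩
  · intro h hh v
    apply mul_left_cancel₀ hg0
    show g * q _ = g * q v
    rw [← hq, ← hq]
    show y ⬝ᵥ _ = y ⬝ᵥ v
    rw [Matrix.dotProduct_mulVec, hy h hh]

theorem det_sub_one_ne_zero {h : Matrix (Fin 2) (Fin 2) ℤ} (hdet : h.det = 1) {k : ℕ} (hk : 0 < k) (hpow : h ^ k = 1)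
    (hne : h ≠ 1) : (h - 1).det ≠ 0 ∧ (h - 1).det.natAbs ≤ 4 := by
  set t := h 0 0 + h 1 1 with ht
  have hd : (h - 1).det = 2 - t := by
    rw [Matrix.det_fin_two] at hdet ⊢
    simp only [Matrix.sub_apply, Matrix.one_apply_eq, Matrix.one_apply_ne (show (0 : Fin 2) ≠ 1 by decide),
      Matrix.one_apply_ne (show (1 : Fin 2) ≠ 0 by decide)]
    linarith
  have hCH : h * h = t • h - 1 := by
    rw [Matrix.det_fin_two] at hdet
    ext i j
    fin_cases i <;> fin_cases j <;>
      simp [Matrix.mul_apply, Fin.sum_univ_two, ht, -zsmul_eq_mul] <;>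
      first | linear_combination (-1 : ℤ) * hdet | linear_combination hdet | ring
  -- powers
  let u : ℕ → ℤ := fun j => (Nat.rec (motive := fun _ => ℤ × ℤ) (0, 1) (fun _ p => (p.2, t * p.2 - p.1)) j).1
  have u0 : u 0 = 0 := rfl
  have u1 : u 1 = 1 := rfl
  have urec : ∀ j, u (j + 2) = t * u (j + 1) - u j := fun j => rfl
  have hpw : ∀ j, h ^ (j + 1) = u (j + 1) • h - u j • (1 : Matrix (Fin 2) (Fin 2) ℤ) := by
    intro j
    induction j with
    | zero => simp [u0, u1]
    | succ j ih =>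
      rw [pow_succ, ih, sub_mul, smul_mul_assoc, smul_mul_assoc, hCH, one_mul, urec]
      module
  have huk : u k ≠ 0 → h = 1 ∨ h = -1 := by
    intro hu
    obtain ⟨j, rfl⟩ : ∃ j, k = j + 1 := ⟨k - 1, by omega⟩
    rw [hpw] at hpow
    have e : ∀ a b, u (j + 1) * h a b = (1 + u j) * (1 : Matrix (Fin 2) (Fin 2) ℤ) a b := by
      intro a b
      have := congrFun (congrFun hpow a) b
      simp only [Matrix.sub_apply, Matrix.smul_apply, smul_eq_mul] at this
      linarith
    have h01 : h 0 1 = 0 := by simpa [hu] using e 0 1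
    have h10 : h 1 0 = 0 := by simpa [hu] using e 1 0
    have h00 : h 0 0 = h 1 1 := mul_left_cancel₀ hu (by rw [e 0 0, e 1 1, Matrix.one_apply_eq, Matrix.one_apply_eq])
    rw [Matrix.det_fin_two, h01, h10, h00] at hdet
    have hsq : h 1 1 * h 1 1 = 1 := by linarith
    rcases Int.eq_one_or_neg_one_of_mul_eq_one hsq with h11 | h11
    · left; ext a b; fin_cases a <;> fin_cases b <;> simp [h01, h10, h00, h11]
    · right; ext a b; fin_cases a <;> fin_cases b <;> simp [h01, h10, h00, h11]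
  have hu2 : t = 2 → ∀ j, u j = j := by
    intro h2 j
    have : ∀ j, u j = j ∧ u (j + 1) = j + 1 := by
      intro j
      induction j with
      | zero => simp [u0, u1]
      | succ j ih => exact ⟨by rw [ih.2]; simp, by rw [urec, ih.1, ih.2, h2]; push_cast; ring⟩
    exact (this j).1
  have hu3 : 3 ≤ |t| → ∀ j, |u j| + 1 ≤ |u (j + 1)| := by
    intro h3 j
    induction j with
    | zero => simp [u0, u1]
    | succ j ih =>
      rw [urec]
      have h4 := abs_sub_abs_le_abs_sub (t * u (j + 1)) (u j)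
      rw [abs_mul] at h4
      nlinarith [abs_nonneg (u j)]
  have ht2 : t ≠ 2 := by
    intro h2
    rcases huk (by rw [hu2 h2]; exact_mod_cast hk.ne') with rfl | rfl
    · exact hne rfl
    · simp [ht] at h2
  have htb : |t| ≤ 2 := by
    by_contra hc
    have h3 : 3 ≤ |t| := by omega
    have : u k ≠ 0 := by
      obtain ⟨j, rfl⟩ : ∃ j, k = j + 1 := ⟨k - 1, by omega⟩
      intro h0
      have := hu3 h3 j
      rw [h0, abs_zero] at this
      linarith [abs_nonneg (u j)]
    rcases huk this with rfl | rfl <;> simp [ht] at h3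
  rw [hd]
  rw [abs_le] at htb
  exact ⟨by omega, by omega⟩

theorem dvd_det_two [NeZero d] (χ : Fin 2 → ZMod d) (h : Matrix (Fin 2) (Fin 2) ℤ)
    (hχ : χ ᵥ* h.map (Int.castRingHom (ZMod d)) = χ) (hord : ∀ k : ℕ, k • χ = 0 → d ∣ k) :
    d ∣ (h - 1).det.natAbs := by
  apply hord
  let φ := (Int.castRingHom (ZMod d)).mapMatrix (m := Fin 2)
  have h1 : χ ᵥ* φ (h - 1) = 0 := by
    rw [map_sub, map_one, Matrix.vecMul_sub, Matrix.vecMul_one]
    exact sub_eq_zero.2 hχ
  have h2 : χ ᵥ* (φ (h - 1) * (φ (h - 1)).adjugate) = 0 := by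
    rw [← Matrix.vecMul_vecMul, h1, Matrix.zero_vecMul]
  rw [Matrix.mul_adjugate, Matrix.vecMul_smul, Matrix.vecMul_one, ← RingHom.map_det] at h2
  rcases Int.natAbs_eq (h - 1).det with he | he
  · rw [he, map_natCast, Nat.cast_smul_eq_nsmul] at h2; exact h2
  · rw [he, map_neg, map_natCast, neg_smul, neg_eq_zero, Nat.cast_smul_eq_nsmul] at h2; exact h2

theorem le_four [NeZero d] (H : Subgroup (Matrix.GeneralLinearGroup (Fin 2) ℤ)) [Finite H] (hno : NoInvariant H)
    (χ : Fin 2 → ZMod d)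
    (hχ : ∀ h ∈ H, χ ᵥ* (h : Matrix (Fin 2) (Fin 2) ℤ).map (Int.castRingHom (ZMod d)) = χ)
    (hord : ∀ k : ℕ, k • χ = 0 → d ∣ k) : d ≤ 4 := by
  classical
  haveI := Fintype.ofFinite H
  by_cases hrot : ∃ h ∈ H, Matrix.det (h : Matrix (Fin 2) (Fin 2) ℤ) = 1 ∧ h ≠ 1
  · obtain ⟨h, hh, hdet, hne⟩ := hrot
    have hfin := (isOfFinOrder_of_finite (⟨h, hh⟩ : H))
    obtain ⟨k, hk, hk1⟩ := isOfFinOrder_iff_pow_eq_one.1 hfin
    have hpow : (h : Matrix (Fin 2) (Fin 2) ℤ) ^ k = 1 := by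
      rw [← Units.val_pow_eq_pow_val, show h ^ k = 1 from congrArg Subtype.val hk1, Units.val_one]
    obtain ⟨h0, h4⟩ := det_sub_one_ne_zero hdet hk hpow fun e => hne (Units.ext e)
    exact (Nat.le_of_dvd (Int.natAbs_pos.2 h0) (dvd_det_two χ _ (hχ h hh) hord)).trans h4
  · push Not at hrot
    have hinj : Function.Injective fun h : H =>
        (Matrix.GeneralLinearGroup.det (h : Matrix.GeneralLinearGroup (Fin 2) ℤ)) := by
      refine (injective_iff_map_eq_one ((Matrix.GeneralLinearGroup.det).comp H.subtype)).2 fun h hh => ?_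
      exact Subtype.ext (hrot h h.2 (congrArg Units.val hh))
    have hc : Nat.card H ≤ 2 := by
      refine (Nat.card_le_card_of_injective _ hinj).trans (le_of_eq ?_)
      rw [Nat.card_eq_fintype_card]; rfl
    have := Nat.le_of_dvd Nat.card_pos (dvd_card H hno χ hχ hord)
    omega

end Groth.Agent.TorusField
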