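import Groth.Agent.TorusFieldLib.Scheme
import Groth.Agent.TorusFieldLib.Arith
import Mathlib.GroupTheory.Exponent
import Mathlib.RingTheory.RootsOfUnity.PrimitiveRoots
import Mathlib.RingTheory.Polynomial.Cyclotomic.Roots

set_option autoImplicit false

/-!
Torsion rational points of anisotropic tori.
-/

noncomputable section

universe u

open CategoryTheory MonoidalCategory CartesianMonoidalCategory AlgebraicGeometry CoactBr
open scoped MonObj TensorProduct
open Matrix

namespace Groth.Agent.TorusField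

/-- Linear automorphisms of `ℤⁿ` as invertible matrices. -/
def toGL (n : ℕ) : ((Fin n → ℤ) ≃ₗ[ℤ] (Fin n → ℤ)) →* Matrix.GeneralLinearGroup (Fin n) ℤ where
  toFun f := ⟨LinearMap.toMatrix' f.toLinearMap, LinearMap.toMatrix' f.symm.toLinearMap,
    by rw [← LinearMap.toMatrix'_comp, LinearEquiv.comp_symm]; exact LinearMap.toMatrix'_id,
    by rw [← LinearMap.toMatrix'_comp, LinearEquiv.symm_comp]; exact LinearMap.toMatrix'_id⟩
  map_one' := Units.ext LinearMap.toMatrix'_id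
  map_mul' f g := Units.ext (LinearMap.toMatrix'_comp f.toLinearMap g.toLinearMap)

theorem toGL_mulVec {n : ℕ} (f : (Fin n → ℤ) ≃ₗ[ℤ] (Fin n → ℤ)) (v : Fin n → ℤ) :
    (toGL n f : Matrix (Fin n) (Fin n) ℤ) *ᵥ v = f v := LinearMap.toMatrix'_mulVec f.toLinearMap v

variable {K : Type u} [Field K] {n : ℕ} {T : Over (Spec (CommRingCat.of K))} [GrpObj T]

theorem exists_data (hT : ∃ (L : Type u) (_ : Field L) (_ : Algebra K L),
      Red.IsSplitTorusWith (Fin n → ℤ) (Red.bc (Spec.map (CommRingCat.ofHom (algebraMap K L))) T)) :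
    ∃ H : Subgroup (Matrix.GeneralLinearGroup (Fin n) ℤ), Finite H ∧
      (¬ NoInvariant H → ∃ i : Red.Gm (Spec (CommRingCat.of K)) ⟶ T, IsMonHom i ∧ Mono i) ∧
      ∃ c : (𝟙_ (Over (Spec (CommRingCat.of K))) ⟶ T) →* (Multiplicative (Fin n → ℤ) →* AlgebraicClosure K),
        Function.Injective c ∧ ∀ x, (∀ m, c x m ∈ Set.range (algebraMap K (AlgebraicClosure K))) →
          ∀ h ∈ H, ∀ v, c x (Multiplicative.ofAdd ((h : Matrix (Fin n) (Fin n) ℤ) *ᵥ v)) =
            c x (Multiplicative.ofAdd v) := by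
  obtain ⟨A, _, _, v, hv, hv', ⟨E⟩⟩ := exists_torus_rep T (AlgebraicClosure K) hT
  obtain ⟨ρ, hρ, hfin⟩ := exists_rep E
  let g := (toGL n).comp ρ
  refine ⟨g.range, ?_, ?_, (pointChar E).comp (pointsHom v), (pointChar_injective E).comp (pointsHom_injective v), ?_⟩
  · exact Set.Finite.to_subtype ((hfin.image (toGL n)).subset (by
      rintro _ ⟨σ, rfl⟩; exact ⟨ρ σ, ⟨σ, rfl⟩, rfl⟩))
  · intro hno
    obtain ⟨y, hys, hy⟩ := exists_surjective g.range hno
    obtain ⟨ψ, hψ, h1, h2⟩ := exists_bialgHom E ρ hρ y (fun σ m => by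
      rw [← toGL_mulVec (ρ σ) m]; exact hy _ ⟨σ, rfl⟩ m) hys
    exact exists_mono_Gm v ψ hψ h1 h2
  · rintro x hx _ ⟨σ, rfl⟩ w
    show pointChar E (pointsHom v x) (Multiplicative.ofAdd ((toGL n (ρ σ) : Matrix (Fin n) (Fin n) ℤ) *ᵥ w)) = _
    rw [toGL_mulVec, pointChar_invariant E ρ hρ]
    obtain ⟨k, hk⟩ := hx (Multiplicative.ofAdd w)
    change algebraMap K _ k = pointChar E (pointsHom v x) (Multiplicative.ofAdd w) at hk
    rw [← hk, AlgEquiv.commutes]
    exact hk

theorem exists_primitive (hK : ∀ n : ℕ, 0 < n → (Polynomial.X ^ n - 1 : Polynomial K).Splits) (d : ℕ)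
    (hd : (d : K) ≠ 0) : ∃ ζ : K, IsPrimitiveRoot ζ d := by
  haveI : NeZero (d : K) := ⟨hd⟩
  have hd0 : 0 < d := Nat.pos_of_ne_zero (by rintro rfl; simp at hd)
  have hs : (Polynomial.cyclotomic d K).Splits := (hK d hd0).of_dvd
    (Polynomial.X_pow_sub_C_ne_zero hd0 (1 : K) |> fun h => by simpa using h) (Polynomial.cyclotomic.dvd_X_pow_sub_one d K)
  obtain ⟨ζ, hζ⟩ := hs.exists_eval_eq_zero (by
    rw [Polynomial.degree_cyclotomic]
    exact_mod_cast (Nat.totient_pos.2 hd0).ne')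
  exact ⟨ζ, Polynomial.isRoot_cyclotomic_iff.1 hζ⟩

theorem cast_orderOf_ne_zero {G : Type*} [Monoid G] {N : Type*} {F : Type u} [MulOneClass N] [Field F]
    (c : G →* (N →* F)) (hc : Function.Injective c) {x : G} (hx : IsOfFinOrder x) :
    ((orderOf x : ℕ) : F) ≠ 0 := by
  intro h
  obtain ⟨p, hp⟩ := CharP.exists F
  have hdvd := (CharP.cast_eq_zero_iff F p _).1 h
  rcases CharP.char_is_prime_or_zero F p with hpp | rfl
  · haveI := Fact.mk hpp
    obtain ⟨q, hq⟩ := hdvd
    have hq0 : 0 < q := Nat.pos_of_ne_zero (by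
      rintro rfl; exact hx.orderOf_pos.ne' (by rw [hq, mul_zero]))
    have h1 : x ^ q = 1 := hc (by
      rw [map_one]
      apply MonoidHom.ext
      intro m
      have e : (c (x ^ q) m) ^ p = 1 := by
        rw [← MonoidHom.pow_apply, ← map_pow, ← pow_mul, mul_comm, ← hq, pow_orderOf_eq_one, map_one,
          MonoidHom.one_apply]
      exact frobenius_inj F p (by rw [frobenius_def, frobenius_def, e, MonoidHom.one_apply, one_pow]))
    have hle := Nat.le_of_dvd hq0 (orderOf_dvd_of_pow_eq_one h1)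
    have h2 := hpp.two_le
    nlinarith
  · exact hx.orderOf_pos.ne' (zero_dvd_iff.1 hdvd)

theorem exists_modChar {n : ℕ} {F : Type u} [Field F] (c : Multiplicative (Fin n → ℤ) →* F) (d : ℕ) [NeZero d]
    (ζ : F) (hζ : IsPrimitiveRoot ζ d) (hc : ∀ m, c m ^ d = 1) :
    ∃ χ : Fin n → ZMod d, ∀ v : Fin n → ℤ, c (Multiplicative.ofAdd v) = ζ ^ (χ ⬝ᵥ fun i => (v i : ZMod d)).val := by
  have hex : ∀ v : Fin n → ℤ, ∃ a : ZMod d, c (Multiplicative.ofAdd v) = ζ ^ a.val := by
    intro v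
    obtain ⟨i, hi, he⟩ := hζ.eq_pow_of_pow_eq_one (hc (Multiplicative.ofAdd v))
    exact ⟨(i : ZMod d), by rw [ZMod.val_natCast_of_lt hi, he]⟩
  choose f hf using hex
  have hinj : ∀ a b : ZMod d, ζ ^ a.val = ζ ^ b.val → a = b := fun a b h =>
    ZMod.val_injective d (hζ.pow_inj a.val_lt b.val_lt h)
  let F' : (Fin n → ℤ) →+ ZMod d := AddMonoidHom.mk' f fun v w => hinj _ _ (by
    rw [← hf, ofAdd_add, map_mul, hf, hf, ← pow_add, ZMod.val_add]
    exact pow_eq_pow_mod _ hζ.pow_eq_one)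
  refine ⟨fun i => F' (Pi.single i 1), fun v => ?_⟩
  rw [hf]
  congr 2
  have hv : v = ∑ i, v i • Pi.single (M := fun _ => ℤ) i 1 := by
    funext j; simp [Pi.single_apply]
  show F' v = _
  conv_lhs => rw [hv]
  rw [map_sum]
  refine Finset.sum_congr rfl fun i _ => ?_
  rw [map_zsmul, zsmul_eq_mul, mul_comm]

/-- The invariant character modulo the order of a torsion point. -/
theorem exists_invariant_modChar {H : Subgroup (Matrix.GeneralLinearGroup (Fin n) ℤ)}
    {c : (𝟙_ (Over (Spec (CommRingCat.of K))) ⟶ T) →* (Multiplicative (Fin n → ℤ) →* AlgebraicClosure K)}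
    (hc : Function.Injective c)
    (hinv : ∀ x, (∀ m, c x m ∈ Set.range (algebraMap K (AlgebraicClosure K))) →
          ∀ h ∈ H, ∀ v, c x (Multiplicative.ofAdd ((h : Matrix (Fin n) (Fin n) ℤ) *ᵥ v)) =
            c x (Multiplicative.ofAdd v))
    (x : 𝟙_ (Over (Spec (CommRingCat.of K))) ⟶ T) (d : ℕ) [NeZero d] (hx : orderOf x = d)
    (ζ : K) (hζ : IsPrimitiveRoot ζ d) :
    ∃ χ : Fin n → ZMod d,
      (∀ h ∈ H, χ ᵥ* (h : Matrix (Fin n) (Fin n) ℤ).map (Int.castRingHom (ZMod d)) = χ) ∧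
      ∀ k : ℕ, k • χ = 0 → d ∣ k := by
  set ζ' := algebraMap K (AlgebraicClosure K) ζ
  have hζ' : IsPrimitiveRoot ζ' d := hζ.map_of_injective (algebraMap K (AlgebraicClosure K)).injective
  have hd : ∀ m, c x m ^ d = 1 := fun m => by
    rw [← MonoidHom.pow_apply, ← map_pow, ← hx, pow_orderOf_eq_one, map_one, MonoidHom.one_apply]
  obtain ⟨χ, hχ⟩ := exists_modChar (c x) d ζ' hζ' hd
  have hmem : ∀ m, c x m ∈ Set.range (algebraMap K (AlgebraicClosure K)) := fun m => by
    obtain ⟨i, -, he⟩ := hζ'.eq_pow_of_pow_eq_one (hd m)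
    exact ⟨ζ ^ i, by rw [map_pow]; exact he⟩
  refine ⟨χ, fun h hh => ?_, fun k hk => ?_⟩
  · have key : ∀ v : Fin n → ℤ, χ ⬝ᵥ (fun i => ((((h : Matrix (Fin n) (Fin n) ℤ) *ᵥ v) i : ℤ) : ZMod d)) =
        χ ⬝ᵥ fun i => (v i : ZMod d) := by
      intro v
      refine ZMod.val_injective d (hζ'.pow_inj (ZMod.val_lt _) (ZMod.val_lt _) ?_)
      rw [← hχ, ← hχ, hinv x hmem h hh]
    funext j
    have := key (Pi.single j 1)
    simp only [Matrix.mulVec_single_one, Pi.single_apply, dotProduct, Int.cast_ite, Int.cast_one, Int.cast_zero,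
      mul_ite, mul_one, mul_zero, Finset.sum_ite_eq', Finset.mem_univ, if_true] at this
    rw [← this]
    rfl
  · rw [← hx]
    refine orderOf_dvd_of_pow_eq_one (hc ?_)
    rw [map_one, map_pow]
    apply MonoidHom.ext
    intro m
    rw [MonoidHom.pow_apply, MonoidHom.one_apply, ← ofAdd_toAdd m, hχ, ← pow_mul, ← hζ'.pow_eq_one]
    obtain ⟨q, hq⟩ : d ∣ (χ ⬝ᵥ fun i => (m.toAdd i : ZMod d)).val * k := by
      rw [← ZMod.natCast_eq_zero_iff, Nat.cast_mul, ZMod.natCast_val, ZMod.cast_id, mul_comm, ← nsmul_eq_mul,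
        ← smul_dotProduct, hk, zero_dotProduct]
    rw [hq, pow_mul, hζ'.pow_eq_one, one_pow]

theorem exists_mono_of_large (d : ℕ) (hd : 0 < d)
    (hΥ : ∀ H : Subgroup (Matrix.GeneralLinearGroup (Fin n) ℤ), Finite H → Nat.card H < d)
    (ζ : K) (hζ : IsPrimitiveRoot ζ d)
    (hT : ∃ (L : Type u) (_ : Field L) (_ : Algebra K L),
      Red.IsSplitTorusWith (Fin n → ℤ) (Red.bc (Spec.map (CommRingCat.ofHom (algebraMap K L))) T))
    (x : 𝟙_ (Over (Spec (CommRingCat.of K))) ⟶ T) (hx : orderOf x = d) :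
    ∃ i : Red.Gm (Spec (CommRingCat.of K)) ⟶ T, IsMonHom i ∧ Mono i := by
  obtain ⟨H, hH, hG, c, hc, hinv⟩ := exists_data hT
  refine hG fun hno => ?_
  haveI : NeZero d := ⟨hd.ne'⟩
  haveI := Fintype.ofFinite H
  obtain ⟨χ, hχ, hord⟩ := exists_invariant_modChar hc hinv x d hx ζ hζ
  exact (hΥ H hH).not_ge (Nat.le_of_dvd Nat.card_pos (dvd_card H hno χ hχ hord))

/-- The common input of the anisotropic bounds. -/
theorem anisotropic_data (hK : ∀ n : ℕ, 0 < n → (Polynomial.X ^ n - 1 : Polynomial K).Splits)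
    (hT : ∃ (L : Type u) (_ : Field L) (_ : Algebra K L),
      Red.IsSplitTorusWith (Fin n → ℤ) (Red.bc (Spec.map (CommRingCat.ofHom (algebraMap K L))) T))
    (haniso : ∀ i : Red.Gm (Spec (CommRingCat.of K)) ⟶ T, IsMonHom i → Mono i → False) :
    ∃ H : Subgroup (Matrix.GeneralLinearGroup (Fin n) ℤ), Finite H ∧ NoInvariant H ∧
      (∀ x : 𝟙_ (Over (Spec (CommRingCat.of K))) ⟶ T, IsOfFinOrder x →
        ((orderOf x : ℕ) : K) ≠ 0 ∧ ∃ χ : Fin n → ZMod (orderOf x),
          (∀ h ∈ H, χ ᵥ* (h : Matrix (Fin n) (Fin n) ℤ).map (Int.castRingHom (ZMod (orderOf x))) = χ) ∧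
          ∀ k : ℕ, k • χ = 0 → orderOf x ∣ k) ∧
      ∀ G : Subgroup (𝟙_ (Over (Spec (CommRingCat.of K))) ⟶ T), Finite G →
        ∀ B : ℕ, (∀ x ∈ G, orderOf x ≤ B) → Nat.card G ≤ B ^ n := by
  classical
  obtain ⟨H, hH, hG, c, hc, hinv⟩ := exists_data hT
  have hno : NoInvariant H := by
    by_contra h
    obtain ⟨i, hi, hi'⟩ := hG h
    exact haniso i hi hi'
  refine ⟨H, hH, hno, fun x hx => ?_, fun G hGfin B hB => ?_⟩
  · have h0 : ((orderOf x : ℕ) : AlgebraicClosure K) ≠ 0 := cast_orderOf_ne_zero c hc hx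
    have h0' : ((orderOf x : ℕ) : K) ≠ 0 := fun h => h0 (by
      rw [← map_natCast (algebraMap K (AlgebraicClosure K)), h, map_zero])
    haveI : NeZero (orderOf x) := ⟨hx.orderOf_pos.ne'⟩
    obtain ⟨ζ, hζ⟩ := exists_primitive hK _ h0'
    exact ⟨h0', exists_invariant_modChar hc hinv x _ rfl ζ hζ⟩
  · letI : CommGroup G :=
      { (inferInstance : Group G) with
        mul_comm := fun a b => Subtype.ext (hc (by
          rw [Subgroup.coe_mul, Subgroup.coe_mul, map_mul, map_mul, mul_comm])) }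
    obtain ⟨g, hg⟩ := Monoid.exists_orderOf_eq_exponent (Monoid.ExponentExists.of_finite (G := G))
    set e := Monoid.exponent G
    haveI : NeZero e := ⟨Monoid.exponent_ne_zero_of_finite⟩
    let Φ : G → (Fin n → rootsOfUnity e (AlgebraicClosure K)) := fun a i =>
      rootsOfUnity.mkOfPowEq (c a.1 (Multiplicative.ofAdd (Pi.single i 1))) (by
        rw [← MonoidHom.pow_apply, ← map_pow, ← Subgroup.coe_pow, Monoid.pow_exponent_eq_one, Subgroup.coe_one,
          map_one, MonoidHom.one_apply])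
    have hΦ : Function.Injective Φ := by
      intro a b h
      apply Subtype.ext
      apply hc
      have hi : ∀ i, c a.1 (Multiplicative.ofAdd (Pi.single i 1)) = c b.1 (Multiplicative.ofAdd (Pi.single i 1)) :=
        fun i => congrArg (fun z : rootsOfUnity e (AlgebraicClosure K) => ((z : (AlgebraicClosure K)ˣ) : AlgebraicClosure K))
          (congrFun h i)
      let ua := (c a.1).toHomUnits
      let ub := (c b.1).toHomUnits
      have hu : MonoidHom.toAdditiveRight ua = MonoidHom.toAdditiveRight ub := by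
        refine AddMonoidHom.ext fun v => DFunLike.congr_fun
          ((Pi.basisFun ℤ (Fin n)).ext (f₁ := (MonoidHom.toAdditiveRight ua).toIntLinearMap)
            (f₂ := (MonoidHom.toAdditiveRight ub).toIntLinearMap) fun i => ?_) v
        rw [Pi.basisFun_apply]
        exact congrArg Additive.ofMul (Units.ext (hi i))
      have hu' : ua = ub := MonoidHom.toAdditiveRight.injective hu
      exact MonoidHom.ext fun m => congrArg Units.val (DFunLike.congr_fun hu' m)
    calc Nat.card G ≤ Nat.card (Fin n → rootsOfUnity e (AlgebraicClosure K)) := Nat.card_le_card_of_injective _ hΦ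
      _ = Nat.card (rootsOfUnity e (AlgebraicClosure K)) ^ n := by rw [Nat.card_fun, Nat.card_fin]
      _ ≤ B ^ n := by
        haveI := Fintype.ofFinite (rootsOfUnity e (AlgebraicClosure K))
        refine Nat.pow_le_pow_left ((le_of_eq_of_le ?_ (card_rootsOfUnity (AlgebraicClosure K) e)).trans ?_) n
        · rw [Nat.card_eq_fintype_card]
        · rw [← hg]
          exact le_of_eq_of_le (Subgroup.orderOf_coe g).symm (hB _ g.2)

theorem isOfFinOrder_of_mem {α : Type*} [Group α] {G : Subgroup α} (h : Finite G) {x : α} (hx : x ∈ G) :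
    IsOfFinOrder x :=
  G.subtype.isOfFinOrder (isOfFinOrder_of_finite (⟨x, hx⟩ : G))

end Groth.Agent.TorusField
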